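import Mathlib
import Groth.Prelude.Def_Wider
import Groth.Agent.Lib.Helper2.Matlis1
import Groth.Agent.Lib.Helper2.InjHull3
import Groth.Agent.S6292

/-!
# The Matlis bidual of a finite module is its completion (helper36)

For a finite module `X` over a Noetherian local ring `(A, 𝔪)` (not necessarily complete) and an
injective hull `E` of the residue field: `Hom_A(Hom_A(X, E), E) ≃ AdicCompletion 𝔪 X`.
-/

set_option autoImplicit false
universe u
open IsLocalRing

namespace Groth.Agent.Lib.Helper36.LD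

open Groth.Agent.Lib.Helper2

variable {A : Type u} [CommRing A] [IsLocalRing A] [IsNoetherianRing A]
  {E : Type u} [AddCommGroup E] [Module A E]
  (f : ResidueField A →ₗ[A] E) (hf : InjHull.IsInjectiveHull f)
  (X : Type u) [AddCommGroup X] [Module A X] [Module.Finite A X]

/-- `X ⧸ 𝔪ⁿ X` -/
abbrev Xq (n : ℕ) : Type u := X ⧸ (maximalIdeal A ^ n • ⊤ : Submodule A X)

lemma isFiniteLength_Xq (n : ℕ) : IsFiniteLength A (Xq (A := A) X n) := by
  refine Groth.Agent.S6292.result (maximalIdeal A) (IsNoetherian.noetherian _) _ n ?_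
  rw [eq_bot_iff]
  intro y hy
  refine Submodule.smul_induction_on hy ?_ ?_
  · intro a ha y _
    obtain ⟨x, rfl⟩ := Submodule.mkQ_surjective _ y
    rw [Submodule.mem_bot, ← map_smul, Submodule.mkQ_apply, Submodule.Quotient.mk_eq_zero]
    exact Submodule.smul_mem_smul ha trivial
  · intro y y' h h'
    exact add_mem h h'

/-- the double dual equivalence at level `n` -/
noncomputable def dn (n : ℕ) : Xq (A := A) X n ≃ₗ[A] ((Xq (A := A) X n →ₗ[A] E) →ₗ[A] E) :=
  LinearEquiv.ofBijective LinearMap.applyₗ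
    (applyₗ_bijective_of_isFiniteLength f hf _ (isFiniteLength_Xq X n))

omit [IsLocalRing A] [IsNoetherianRing A] [Module.Finite A X] in
/-- a functional on `X` kills `𝔪ⁿ X` for some `n`, when `E` is `𝔪`-power torsion -/
lemma exists_level (I : Ideal A) [Module.Finite A X]
    (hE : ∀ e : E, ∃ n : ℕ, ∀ a ∈ I ^ n, a • e = 0)
    (χ : X →ₗ[A] E) : ∃ n : ℕ, (I ^ n • ⊤ : Submodule A X) ≤ LinearMap.ker χ := by
  obtain ⟨G, hG⟩ := (inferInstance : Module.Finite A X).fg_top
  choose m hm using fun x : X => hE (χ x)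
  refine ⟨G.sup m, ?_⟩
  rw [Submodule.smul_le]
  intro a ha x hxtop
  clear hxtop
  rw [LinearMap.mem_ker, map_smul]
  have hx : x ∈ Submodule.span A (G : Set X) := by rw [hG]; trivial
  induction hx using Submodule.span_induction with
  | mem x hx => exact hm x a (Ideal.pow_le_pow_right (Finset.le_sup hx) ha)
  | zero => rw [map_zero, smul_zero]
  | add x y _ _ h h' => rw [map_add, smul_add, h, h', add_zero]
  | smul c x _ h => rw [map_smul, smul_comm, h, smul_zero]

include f hf in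
omit [Module.Finite A X] in
/-- `E` is `𝔪`-power torsion -/
lemma torsion_hull (e : E) : ∃ n : ℕ, ∀ a ∈ maximalIdeal A ^ n, a • e = 0 :=
  isPowerTorsion_of_isInjectiveHull f hf e

section Psi

/-- `Ψ_n : Hom(Hom(X,E),E) → X ⧸ 𝔪ⁿ X` -/
noncomputable def Psi (n : ℕ) : ((X →ₗ[A] E) →ₗ[A] E) →ₗ[A] Xq (A := A) X n :=
  (dn f hf X n).symm.toLinearMap ∘ₗ
    (LinearMap.lcomp A E (LinearMap.lcomp A E (Submodule.mkQ _)))

lemma Psi_spec (n : ℕ) (θ : (X →ₗ[A] E) →ₗ[A] E) (ψ : Xq (A := A) X n →ₗ[A] E) :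
    ψ (Psi f hf X n θ) = θ (ψ ∘ₗ Submodule.mkQ _) := by
  have h1 : dn f hf X n (Psi f hf X n θ) =
      (LinearMap.lcomp A E (LinearMap.lcomp A E (Submodule.mkQ _))) θ := by
    unfold Psi
    rw [LinearMap.comp_apply]
    exact LinearEquiv.apply_symm_apply _ _
  have h2 := LinearMap.congr_fun h1 ψ
  exact h2

lemma Psi_compat {k n : ℕ} (hkn : k ≤ n) :
    AdicCompletion.transitionMap (maximalIdeal A) X hkn ∘ₗ Psi f hf X n = Psi f hf X k := by
  refine LinearMap.ext fun θ => ?_
  apply (dn f hf X k).injective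
  refine LinearMap.ext fun ψ => ?_
  show ψ (AdicCompletion.transitionMap (maximalIdeal A) X hkn (Psi f hf X n θ)) =
    ψ (Psi f hf X k θ)
  rw [Psi_spec]
  have h1 : ψ (AdicCompletion.transitionMap (maximalIdeal A) X hkn (Psi f hf X n θ)) =
      (ψ ∘ₗ AdicCompletion.transitionMap (maximalIdeal A) X hkn) (Psi f hf X n θ) := rfl
  rw [h1, Psi_spec, LinearMap.comp_assoc]
  congr 2

/-- the comparison `Hom(Hom(X,E),E) → X^` -/
noncomputable def PsiHat : ((X →ₗ[A] E) →ₗ[A] E) →ₗ[A] AdicCompletion (maximalIdeal A) X :=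
  AdicCompletion.lift (maximalIdeal A) (Psi f hf X) (fun hle => Psi_compat f hf X hle)

lemma PsiHat_val (θ : (X →ₗ[A] E) →ₗ[A] E) (n : ℕ) :
    (PsiHat f hf X θ).val n = Psi f hf X n θ := rfl

theorem PsiHat_injective : Function.Injective (PsiHat f hf X) := by
  rw [← LinearMap.ker_eq_bot, LinearMap.ker_eq_bot']
  intro θ hθ
  refine LinearMap.ext fun χ => ?_
  obtain ⟨n, hn⟩ := exists_level X (maximalIdeal A) (torsion_hull f hf) χ
  have h1 : χ = ((maximalIdeal A ^ n • ⊤ : Submodule A X).liftQ χ hn) ∘ₗ Submodule.mkQ _ := by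
    refine LinearMap.ext fun x => ?_
    rfl
  rw [h1, ← Psi_spec f hf X n θ, ← PsiHat_val, hθ]
  simp

/-- the descent of a functional to level `n` -/
noncomputable def desc (χ : X →ₗ[A] E) (n : ℕ)
    (h : (maximalIdeal A ^ n • ⊤ : Submodule A X) ≤ LinearMap.ker χ) : Xq (A := A) X n →ₗ[A] E :=
  (maximalIdeal A ^ n • ⊤ : Submodule A X).liftQ χ h

omit [IsNoetherianRing A] [Module.Finite A X] in
lemma desc_transition (χ : X →ₗ[A] E) {k n : ℕ} (hkn : k ≤ n)
    (hk : (maximalIdeal A ^ k • ⊤ : Submodule A X) ≤ LinearMap.ker χ)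
    (hn : (maximalIdeal A ^ n • ⊤ : Submodule A X) ≤ LinearMap.ker χ)
    (z : AdicCompletion (maximalIdeal A) X) :
    desc X χ n hn (z.val n) = desc X χ k hk (z.val k) := by
  rw [← AdicCompletion.transitionMap_comp_eval_apply (maximalIdeal A) X hkn z]
  obtain ⟨x, hx⟩ := Submodule.mkQ_surjective _ (z.val n)
  rw [← hx]
  rfl

theorem PsiHat_surjective : Function.Surjective (PsiHat f hf X) := by
  intro z
  classical
  have hlev := exists_level X (maximalIdeal A) (torsion_hull f hf)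
  let θ₀ : (X →ₗ[A] E) → E := fun χ =>
    desc X χ (Nat.find (hlev χ)) (Nat.find_spec (hlev χ)) (z.val _)
  have hθ₀ : ∀ (χ : X →ₗ[A] E) (n : ℕ)
      (hn : (maximalIdeal A ^ n • ⊤ : Submodule A X) ≤ LinearMap.ker χ),
      θ₀ χ = desc X χ n hn (z.val n) := by
    intro χ n hn
    exact (desc_transition X χ (Nat.find_min' (hlev χ) hn) _ hn z).symm
  have hmono : ∀ (χ : X →ₗ[A] E) {k n : ℕ} (_ : k ≤ n),
      (maximalIdeal A ^ k • ⊤ : Submodule A X) ≤ LinearMap.ker χ →
      (maximalIdeal A ^ n • ⊤ : Submodule A X) ≤ LinearMap.ker χ := by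
    intro χ k n hkn h
    exact le_trans (Submodule.smul_mono_left (Ideal.pow_le_pow_right hkn)) h
  let θ : (X →ₗ[A] E) →ₗ[A] E :=
    { toFun := θ₀
      map_add' := by
        intro χ χ'
        obtain ⟨n, hn⟩ := hlev χ
        obtain ⟨n', hn'⟩ := hlev χ'
        have h1 := hmono χ (le_max_left n n') hn
        have h2 := hmono χ' (le_max_right n n') hn'
        have h3 : (maximalIdeal A ^ max n n' • ⊤ : Submodule A X) ≤ LinearMap.ker (χ + χ') := by
          intro x hx
          rw [LinearMap.mem_ker, LinearMap.add_apply, LinearMap.mem_ker.mp (h1 hx),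
            LinearMap.mem_ker.mp (h2 hx), add_zero]
        rw [hθ₀ χ _ h1, hθ₀ χ' _ h2, hθ₀ (χ + χ') _ h3]
        obtain ⟨x, hx⟩ := Submodule.mkQ_surjective _ (z.val (max n n'))
        rw [← hx]
        rfl
      map_smul' := by
        intro a χ
        obtain ⟨n, hn⟩ := hlev χ
        have h3 : (maximalIdeal A ^ n • ⊤ : Submodule A X) ≤ LinearMap.ker (a • χ) := by
          intro x hx
          rw [LinearMap.mem_ker, LinearMap.smul_apply, LinearMap.mem_ker.mp (hn hx), smul_zero]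
        rw [hθ₀ χ _ hn, hθ₀ (a • χ) _ h3]
        obtain ⟨x, hx⟩ := Submodule.mkQ_surjective _ (z.val n)
        rw [← hx]
        rfl }
  refine ⟨θ, ?_⟩
  apply AdicCompletion.ext
  intro n
  rw [PsiHat_val]
  apply (dn f hf X n).injective
  refine LinearMap.ext fun ψ => ?_
  show ψ (Psi f hf X n θ) = ψ (z.val n)
  rw [Psi_spec]
  have hn : (maximalIdeal A ^ n • ⊤ : Submodule A X) ≤ LinearMap.ker (ψ ∘ₗ Submodule.mkQ _) := by
    intro x hx
    rw [LinearMap.mem_ker, LinearMap.comp_apply, Submodule.mkQ_apply,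
      (Submodule.Quotient.mk_eq_zero _).mpr hx, map_zero]
  show θ₀ (ψ ∘ₗ Submodule.mkQ _) = ψ (z.val n)
  rw [hθ₀ _ n hn]
  obtain ⟨x, hx⟩ := Submodule.mkQ_surjective _ (z.val n)
  rw [← hx]
  rfl

/-- the Matlis bidual of a finite module is its completion -/
noncomputable def bidualEquiv :
    ((X →ₗ[A] E) →ₗ[A] E) ≃ₗ[A] AdicCompletion (maximalIdeal A) X :=
  LinearEquiv.ofBijective (PsiHat f hf X) ⟨PsiHat_injective f hf X, PsiHat_surjective f hf X⟩

end Psi

end Groth.Agent.Lib.Helper36.LD
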