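import Mathlib
import Groth.Agent.Lib.Helper36.LD.Main

/-!
# Finiteness of `Ext` into a dualizing complex, and a small model (helper36)
-/

set_option autoImplicit false
universe u
open CategoryTheory CategoryTheory.Limits CategoryTheory.Pretriangulated Opposite
attribute [local instance] HasDerivedCategory.standard

namespace Groth.Agent.Lib.Helper36.LD

open Groth.Agent.Lib.Helper12

variable {A : Type u} [CommRing A] [IsNoetherianRing A]

/-- `Hom_{D(A)}(M, ω⟦i⟧)` is a finite module for finite `M` and dualizing `ω` -/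
theorem finite_ext (ω : Dual.D A) (hω : Dual.IsDualizing A ω) (M : Type u) [AddCommGroup M]
    [Module A M] [Module.Finite A M] (i : ℤ) : Module.Finite A (Dual.inD A M ⟶ ω⟦i⟧) := by
  obtain ⟨a₀, b₀, hab⟩ := hω.finite_injective_dimension
  have hz := DualizingBC.isZero_HF_of_finite_injective_dimension ω a₀ b₀ hab
  exact HomFinite.finite_hom _ (ω⟦i⟧) (DualizingBC.isPseudoCoherent'_inD M) (a₀ - i)
    (fun k hk => isZero_HF_shift ω i k (hz _ (Or.inl (by omega))))
    (fun k => HomFinite.finite_HF_shift ω i k (hω.finite_cohomology _))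

/-- a model in universe `u` of the finite module `Hom_{D(A)}(M, ω⟦i⟧)` -/
theorem exists_small_model (ω : Dual.D A) (hω : Dual.IsDualizing A ω) (M : Type u)
    [AddCommGroup M] [Module A M] [Module.Finite A M] (i : ℤ) :
    ∃ (X : Type u) (_ : AddCommGroup X) (_ : Module A X) (_ : Module.Finite A X),
      Nonempty (X ≃ₗ[A] (Dual.inD A M ⟶ ω⟦i⟧)) := by
  have hfin := finite_ext ω hω M i
  have hsmall : Small.{u} (Dual.inD A M ⟶ ω⟦i⟧) := Module.Finite.small A _
  exact ⟨Shrink.{u} (Dual.inD A M ⟶ ω⟦i⟧), inferInstance, inferInstance, inferInstance,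
    ⟨Shrink.linearEquiv A _⟩⟩

end Groth.Agent.Lib.Helper36.LD
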