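import Mathlib

/-!
# Algebra for the vanishing criterion `H^0_I(ω) = 0 ⇒ cd(A, I) < dim A` (helper36)
-/

set_option autoImplicit false
universe u

namespace Groth.Agent.Lib.Helper36.LD.HLVAlg

open Module

/-- flat base change of colon ideals, elementwise -/
theorem mem_span_colon_of_flat {A R : Type*} [CommRing A] [CommRing R] [Algebra A R]
    [Module.Flat A R] {r s : ℕ} (aa : Fin r → A) (nn : Fin s → A) (x : R)
    (h : ∀ i, algebraMap A R (aa i) * x ∈
      Ideal.span (Set.range (fun l => algebraMap A R (nn l)))) :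
    x ∈ Ideal.span ((algebraMap A R) ''
      {c : A | ∀ i, aa i * c ∈ Ideal.span (Set.range nn)}) := by
  classical
  have h' : ∀ i, ∃ ρ : Fin s → R, ∑ l, ρ l * algebraMap A R (nn l) = algebraMap A R (aa i) * x :=
    fun i => (Ideal.mem_span_range_iff_exists_fun).mp (h i)
  choose ρ hρ using h'
  let ι := Option (Fin r × Fin s)
  let wR : ι → R := fun o => o.elim x (fun p => - ρ p.1 p.2)
  let xL : (ι → A) →ₗ[A] R := Fintype.linearCombination A wR
  let fL : (Fin r → A) →ₗ[A] (ι → A) :=
    LinearMap.pi (fun o => o.elim (Fintype.linearCombination A aa)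
      (fun p => (nn p.2) • LinearMap.proj p.1))
  have hfn : ∀ w : Fin r → A, fL w none = ∑ i, w i * aa i := by
    intro w
    show (Fintype.linearCombination A aa) w = _
    rw [Fintype.linearCombination_apply]
    rfl
  have hfs : ∀ (w : Fin r → A) (p : Fin r × Fin s), fL w (some p) = nn p.2 * w p.1 := by
    intro w p
    rfl
  have hcomp : xL ∘ₗ fL = 0 := by
    refine LinearMap.ext fun w => ?_
    show xL (fL w) = 0
    show (Fintype.linearCombination A wR) (fL w) = 0
    rw [Fintype.linearCombination_apply, Fintype.sum_option, Fintype.sum_prod_type]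
    simp only [hfn, hfs]
    show (∑ i, w i * aa i) • x + ∑ i, ∑ l, (nn l * w i) • (- ρ i l) = 0
    have h1 : (∑ i, w i * aa i) • x = ∑ i, ∑ l, (nn l * w i) • ρ i l := by
      rw [Finset.sum_smul]
      refine Finset.sum_congr rfl (fun i _ => ?_)
      rw [mul_smul, Algebra.smul_def (aa i) x, ← hρ i, Finset.smul_sum]
      refine Finset.sum_congr rfl (fun l _ => ?_)
      rw [Algebra.smul_def, Algebra.smul_def, map_mul]
      ring
    rw [h1, ← Finset.sum_add_distrib]
    refine Finset.sum_eq_zero (fun i _ => ?_)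
    rw [← Finset.sum_add_distrib]
    refine Finset.sum_eq_zero (fun l _ => ?_)
    rw [smul_neg, add_neg_cancel]
  obtain ⟨k, a, y, hxy, haf⟩ := Module.Flat.exists_factorization_of_comp_eq_zero_of_free hcomp
  let δ : ι → (ι → A) := fun o => fun o' => if o = o' then 1 else 0
  set c : Fin k →₀ A := a (δ none) with hc
  have hx : x = y c := by
    have h1 : xL (δ none) = x := by
      show (Fintype.linearCombination A wR) (δ none) = x
      rw [Fintype.linearCombination_apply]
      simp only [δ, wR, ite_smul, one_smul, zero_smul]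
      rw [Finset.sum_ite_eq]
      simp
    rw [← h1, hxy]
    rfl
  have hcmem : ∀ j, c j ∈ {c : A | ∀ i, aa i * c ∈ Ideal.span (Set.range nn)} := by
    intro j i
    have h0 : a (fL (Pi.single i 1)) = 0 := LinearMap.congr_fun haf (Pi.single i 1)
    rw [LinearMap.pi_apply_eq_sum_univ a (fL (Pi.single i 1)), Fintype.sum_option] at h0
    have h1 := DFunLike.congr_fun h0 j
    rw [Finsupp.add_apply, Finsupp.smul_apply, Finsupp.finsetSum_apply] at h1
    have h2 : fL (Pi.single i 1) none = aa i := by
      rw [hfn]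
      simp [Pi.single_apply]
    rw [h2] at h1
    have h3 : aa i * c j = - ∑ p : Fin r × Fin s,
        ((fL (Pi.single i 1) (some p)) • a (fun o' => if some p = o' then 1 else 0)) j := by
      have : aa i • (a (fun o' => if (none : ι) = o' then 1 else 0)) j = aa i * c j := rfl
      rw [this] at h1
      exact eq_neg_of_add_eq_zero_left h1
    rw [h3]
    refine neg_mem (Ideal.sum_mem _ (fun p _ => ?_))
    rw [Finsupp.smul_apply, hfs, smul_eq_mul, mul_assoc]
    exact Ideal.mul_mem_right _ _ (Ideal.subset_span ⟨p.2, rfl⟩)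
  rw [hx, ← Finsupp.univ_sum_single c, map_sum]
  refine Ideal.sum_mem _ (fun j _ => ?_)
  have h1 : (Finsupp.single j (c j) : Fin k →₀ A) = c j • Finsupp.single j 1 := by
    rw [Finsupp.smul_single, smul_eq_mul, mul_one]
  rw [h1, map_smul, Algebra.smul_def]
  exact Ideal.mul_mem_right _ _ (Ideal.subset_span ⟨c j, hcmem j, rfl⟩)

section Completion

open IsLocalRing

variable {A : Type u} [CommRing A] [IsLocalRing A] [IsNoetherianRing A]
  [IsNoetherianRing (AdicCompletion (maximalIdeal A) A)]

lemma le_zero_of_not_one_le (d : WithBot ℕ∞) (h : ¬ (1 ≤ d)) : d ≤ 0 := by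
  have h1 : d < 1 := not_le.mp h
  induction d using WithBot.recBotCoe with
  | bot => exact bot_le
  | coe e =>
    have h2 : e < 1 := by exact_mod_cast h1
    have h3 : e = 0 := Order.lt_one_iff.mp h2
    subst h3
    exact le_refl _

/-- a power of the maximal ideal lies in an ideal whose quotient has dimension `< 1` -/
lemma exists_pow_le_of_dim {R : Type u} [CommRing R] [IsLocalRing R] [IsNoetherianRing R]
    (Q : Ideal R) (hdim : ¬ (1 ≤ ringKrullDim (R ⧸ Q))) : ∃ K : ℕ, maximalIdeal R ^ K ≤ Q := by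
  have h0 : ringKrullDim (R ⧸ Q) ≤ 0 := le_zero_of_not_one_le _ hdim
  have hK : Ring.KrullDimLE 0 (R ⧸ Q) := Ring.krullDimLE_iff.mpr (by exact_mod_cast h0)
  have hmax := Ring.krullDimLE_zero_iff.mp hK
  have hrad : maximalIdeal R ≤ Q.radical := by
    rw [Ideal.radical_eq_sInf]
    refine le_sInf (fun q hq => ?_)
    obtain ⟨hQq, hqp⟩ := hq
    have hker : RingHom.ker (Ideal.Quotient.mk Q) ≤ q := by
      rw [Ideal.mk_ker]
      exact hQq
    have hp : (q.map (Ideal.Quotient.mk Q)).IsPrime :=
      Ideal.map_isPrime_of_surjective Ideal.Quotient.mk_surjective hker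
    have hm : (q.map (Ideal.Quotient.mk Q)).IsMaximal := hmax _ hp
    have hc : (q.map (Ideal.Quotient.mk Q)).comap (Ideal.Quotient.mk Q) = q := by
      rw [Ideal.comap_map_of_surjective' _ Ideal.Quotient.mk_surjective, sup_eq_left]
      exact hker
    have hqm : q.IsMaximal := by
      rw [← hc]
      exact Ideal.comap_isMaximal_of_surjective _ Ideal.Quotient.mk_surjective
    rw [IsLocalRing.eq_maximalIdeal hqm]
  exact Ideal.exists_pow_le_of_le_radical_of_fg hrad
    ((isNoetherianRing_iff_ideal_fg R).mp inferInstance _)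

/-- if the Hartshorne–Lichtenbaum condition fails at a minimal prime of the completion, there are
`𝔪`-power-torsion elements of `A ⧸ Iᵐ` with a fixed nonzero image in `A ⧸ I^{n₀}` -/
theorem exists_torsion_of_not_hlvt (I : Ideal A) (hI : I ≠ ⊤)
    (P : Ideal (AdicCompletion (maximalIdeal A) A))
    (hP : P ∈ minimalPrimes (AdicCompletion (maximalIdeal A) A))
    (hdim : ¬ (1 ≤ ringKrullDim (AdicCompletion (maximalIdeal A) A ⧸
      (I.map (algebraMap A (AdicCompletion (maximalIdeal A) A)) ⊔ P)))) :
    ∃ n₀ : ℕ, ∀ m : ℕ, n₀ ≤ m → ∃ (y : A) (k : ℕ),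
      (∀ a ∈ maximalIdeal A ^ k, a * y ∈ I ^ m) ∧ y ∉ I ^ n₀ := by
  set R := AdicCompletion (maximalIdeal A) A with hR
  set J : Ideal R := I.map (algebraMap A R) with hJ
  have hff : Module.FaithfullyFlat A R := Module.FaithfullyFlat.of_flat_of_isLocalHom
  -- the element `x` with annihilator `P`
  have hass : P ∈ associatedPrimes R R := by
    apply Module.associatedPrimes.minimalPrimes_annihilator_subset_associatedPrimes R R
    rw [Module.annihilator_eq_bot.mpr inferInstance]
    exact hP
  obtain ⟨hPprime, x, hx⟩ := (isAssociatedPrime_iff).mp hass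
  have hx0 : x ≠ 0 := by
    rintro rfl
    apply hPprime.ne_top
    rw [hx, Ideal.eq_top_iff_one, Submodule.mem_colon_singleton]
    simp
  have hPx : ∀ p ∈ P, p * x = 0 := by
    intro p hp
    rw [hx, Submodule.mem_colon_singleton] at hp
    exact (Submodule.mem_bot R).mp hp
  obtain ⟨K, hK⟩ := exists_pow_le_of_dim (J ⊔ P) hdim
  -- `𝔫^{K n} x ⊆ J^n`
  have hpow : ∀ n : ℕ, ∀ z ∈ maximalIdeal R ^ (K * n), z * x ∈ J ^ n := by
    intro n
    induction n with
    | zero =>
      intro z _
      rw [pow_zero, Ideal.one_eq_top]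
      trivial
    | succ n ih =>
      intro z hz
      rw [Nat.mul_succ, pow_add] at hz
      refine Submodule.mul_induction_on hz (fun z₁ hz₁ z₂ hz₂ => ?_) (fun u v hu hv => ?_)
      · obtain ⟨j, hj, p, hp, rfl⟩ := Submodule.mem_sup.mp (hK hz₂)
        have h1 : z₁ * (j + p) * x = j * (z₁ * x) := by
          have := hPx p hp
          calc z₁ * (j + p) * x = z₁ * j * x + z₁ * (p * x) := by ring
            _ = j * (z₁ * x) := by rw [this]; ring
        rw [h1, pow_succ']
        exact Ideal.mul_mem_mul hj (ih z₁ hz₁)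
      · rw [add_mul]
        exact Ideal.add_mem _ hu hv
  -- Krull intersection
  have hJtop : J ≠ ⊤ := by
    intro h
    apply hI
    have := Ideal.comap_map_eq_self_of_faithfullyFlat (B := R) I
    rw [← this, ← hJ, h, Ideal.comap_top]
  obtain ⟨n₀, hn₀⟩ : ∃ n₀ : ℕ, x ∉ J ^ n₀ := by
    by_contra hcon
    push Not at hcon
    apply hx0
    have h1 : x ∈ ⨅ i : ℕ, J ^ i := (Submodule.mem_iInf _).mpr hcon
    rw [Ideal.iInf_pow_eq_bot_of_isLocalRing J hJtop] at h1
    exact (Submodule.mem_bot R).mp h1
  refine ⟨n₀, fun m hm => ?_⟩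
  -- generators
  obtain ⟨r, aa, haa⟩ := Submodule.fg_iff_exists_fin_generating_family.mp
    ((isNoetherianRing_iff_ideal_fg A).mp inferInstance (maximalIdeal A ^ (K * m)))
  obtain ⟨s, nn, hnn⟩ := Submodule.fg_iff_exists_fin_generating_family.mp
    ((isNoetherianRing_iff_ideal_fg A).mp inferInstance (I ^ m))
  have hmap : ∀ (k : ℕ) (a : A), a ∈ maximalIdeal A ^ k →
      algebraMap A R a ∈ maximalIdeal R ^ k := by
    intro k a ha
    have h1 : maximalIdeal A ≤ (maximalIdeal R).comap (algebraMap A R) := fun b hb =>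
      map_nonunit (algebraMap A R) b hb
    exact Ideal.le_comap_pow (algebraMap A R) k (Ideal.pow_right_mono h1 k ha)
  have hJm : J ^ m = Ideal.span (Set.range (fun l => algebraMap A R (nn l))) := by
    have h1 : I ^ m = Ideal.span (Set.range nn) := hnn.symm
    rw [hJ, ← Ideal.map_pow, h1, Ideal.map_span, ← Set.range_comp]
    rfl
  have hmem : ∀ i, algebraMap A R (aa i) * x ∈
      Ideal.span (Set.range (fun l => algebraMap A R (nn l))) := by
    intro i
    rw [← hJm]
    refine hpow m _ (hmap _ _ ?_)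
    rw [← haa]
    exact Submodule.subset_span ⟨i, rfl⟩
  have hxC := mem_span_colon_of_flat aa nn x hmem
  have hnn' : Ideal.span (Set.range nn) = I ^ m := hnn
  rw [hnn'] at hxC
  by_contra hcon
  push Not at hcon
  apply hn₀
  have hle : Ideal.span ((algebraMap A R) '' {c : A | ∀ i, aa i * c ∈ I ^ m}) ≤ J ^ n₀ := by
    rw [Ideal.span_le]
    rintro _ ⟨c, hc, rfl⟩
    have hc' : c ∈ I ^ n₀ := by
      refine hcon c (K * m) ?_
      intro a ha
      rw [← haa] at ha
      refine Submodule.span_induction (p := fun a _ => a * c ∈ I ^ m) ?_ ?_ ?_ ?_ ha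
      · rintro _ ⟨i, rfl⟩
        exact hc i
      · rw [zero_mul]
        exact Ideal.zero_mem _
      · intro u v _ _ hu hv
        rw [add_mul]
        exact Ideal.add_mem _ hu hv
      · intro t u _ hu
        rw [smul_eq_mul, mul_assoc]
        exact Ideal.mul_mem_left _ _ hu
    rw [hJ, ← Ideal.map_pow]
    exact Ideal.mem_map_of_mem _ hc'
  exact hle hxC

end Completion

end Groth.Agent.Lib.Helper36.LD.HLVAlg
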