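import Mathlib
import Groth.Prelude.Def_DualLC
import Groth.Agent.Lib.Helper36.LD.Main
import Groth.Agent.Lib.Helper36.LD.Finite
import Groth.Agent.Lib.Helper36.LD.HLVAlg
import Groth.Agent.Lib.Helper6.RGammaColim
import Groth.Agent.S0299

/-!
# `H^0_I(ω) = 0` kills the `𝔪`-torsion of the system `A ⧸ Iⁿ` (helper36)
-/

set_option autoImplicit false
universe u
open CategoryTheory CategoryTheory.Limits CategoryTheory.Pretriangulated Opposite
attribute [local instance] HasDerivedCategory.standard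

namespace Groth.Agent.Lib.Helper36.LD

open Groth.Agent.Lib.Helper36.Matlis Groth.Agent.Lib.Helper12
open Groth.Agent.Lib.Helper6.RGammaColim

section Dies

variable {A : Type u} [CommRing A] (I : Ideal A)

/-- the transition morphisms `A ⧸ Iᵐ ⟶ A ⧸ Iⁿ` in `D(A)` -/
noncomputable def uI {n m : ℕ} (h : n ≤ m) :
    Dual.inD A (A ⧸ I ^ m) ⟶ Dual.inD A (A ⧸ I ^ n) :=
  (DerivedCategory.singleFunctor (ModuleCat.{u} A) 0).map (πmn I h)

lemma πmn_refl (n : ℕ) : πmn I (le_refl n) = 𝟙 _ := by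
  apply hom_ext_one
  rfl

lemma πmn_trans {n m l : ℕ} (h : n ≤ m) (h' : m ≤ l) :
    πmn I h' ≫ πmn I h = πmn I (h.trans h') := by
  apply hom_ext_one
  rfl

lemma uI_refl (n : ℕ) : uI I (le_refl n) = 𝟙 _ := by
  unfold uI
  rw [πmn_refl, CategoryTheory.Functor.map_id]

lemma uI_trans {n m l : ℕ} (h : n ≤ m) (h' : m ≤ l) :
    uI I h' ≫ uI I h = uI I (h.trans h') := by
  unfold uI
  rw [← Functor.map_comp, πmn_trans]

variable (K' : Dual.D A)

/-- transition maps of the Hom modules -/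
noncomputable def tmapI (i k : ℕ) (h : i ≤ k) :
    (Dual.inD A (A ⧸ I ^ i) ⟶ K') →ₗ[A] (Dual.inD A (A ⧸ I ^ k) ⟶ K') :=
  Linear.leftComp A K' (uI I h)

instance : DirectedSystem (fun n : ℕ => (Dual.inD A (A ⧸ I ^ n) ⟶ K'))
    (fun i k h => tmapI I K' i k h) where
  map_self i x := by
    show uI I (le_refl i) ≫ x = x
    rw [uI_refl, Category.id_comp]
  map_map i k l h h' x := by
    show uI I h' ≫ uI I h ≫ x = uI I (h.trans h') ≫ x
    rw [← Category.assoc, uI_trans]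

/-- the cocone on the module-theoretic direct limit -/
noncomputable def coconeI : Cocone (diag I K') where
  pt := ModuleCat.of A (Module.DirectLimit (fun n : ℕ => (Dual.inD A (A ⧸ I ^ n) ⟶ K'))
    (tmapI I K'))
  ι :=
    { app := fun n => ModuleCat.ofHom (Module.DirectLimit.of A ℕ
        (fun n : ℕ => (Dual.inD A (A ⧸ I ^ n) ⟶ K')) (tmapI I K') n.unop.unop)
      naturality := fun n n' w => by
        ext x
        have h : n.unop.unop ≤ n'.unop.unop := leOfHom w.unop.unop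
        exact Module.DirectLimit.of_f (f := tmapI I K') (hij := h) (x := x) }

/-- if the colimit vanishes, every morphism `A ⧸ Iⁿ ⟶ K'` dies at a later stage -/
theorem exists_comp_eq_zero_of_subsingleton
    (h0 : Subsingleton (colimit (diag I K') : ModuleCat.{u + 1} A)) (n : ℕ)
    (g : Dual.inD A (A ⧸ I ^ n) ⟶ K') : ∃ (m : ℕ) (hm : n ≤ m), uI I hm ≫ g = 0 := by
  have hx : (colimit.ι (diag I K') (op (op n))).hom g = 0 := Subsingleton.elim _ _
  have h1 : Module.DirectLimit.of A ℕ (fun n : ℕ => (Dual.inD A (A ⧸ I ^ n) ⟶ K'))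
      (tmapI I K') n g = 0 := by
    have h2 := congrArg (colimit.desc (diag I K') (coconeI I K')).hom hx
    rw [map_zero, ← LinearMap.comp_apply, ← ModuleCat.hom_comp, colimit.ι_desc] at h2
    exact h2
  obtain ⟨m, hm, h2⟩ := Module.DirectLimit.of.zero_exact h1
  exact ⟨m, hm, h2⟩

end Dies

section Duality

variable {A : Type u} [CommRing A] [IsLocalRing A] [IsNoetherianRing A]
  (ω : Dual.D A) (hω : Dual.IsDualizing A ω) (hn : Dual.IsNormalized A ω) (I : Ideal A)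

include hω in
/-- all morphisms `A ⧸ Iⁿ ⟶ ω` die at a common later stage when `H^0_I(ω) = 0` -/
theorem exists_uniform_stage (h0 : Subsingleton (Dual2.HDI A I ω 0)) (n : ℕ) :
    ∃ (m : ℕ) (hm : n ≤ m), ∀ g : Dual.inD A (A ⧸ I ^ n) ⟶ ω, uI I hm ≫ g = 0 := by
  have hfin : Module.Finite A (Dual.inD A (A ⧸ I ^ n) ⟶ ω⟦(0 : ℤ)⟧) :=
    finite_ext ω hω (A ⧸ I ^ n) 0
  obtain ⟨s, hs⟩ := hfin.fg_top
  have hdie : ∀ g : Dual.inD A (A ⧸ I ^ n) ⟶ ω⟦(0 : ℤ)⟧,
      ∃ (m : ℕ) (hm : n ≤ m), uI I hm ≫ g = 0 :=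
    fun g => exists_comp_eq_zero_of_subsingleton I (ω⟦(0 : ℤ)⟧) h0 n g
  choose mm hmm hzero using hdie
  let m := max n (s.sup mm)
  have hm : n ≤ m := le_max_left _ _
  have hall : ∀ g : Dual.inD A (A ⧸ I ^ n) ⟶ ω⟦(0 : ℤ)⟧, uI I hm ≫ g = 0 := by
    have hle : Submodule.span A (s : Set (Dual.inD A (A ⧸ I ^ n) ⟶ ω⟦(0 : ℤ)⟧)) ≤
        LinearMap.ker (Linear.leftComp A (ω⟦(0 : ℤ)⟧) (uI I hm)) := by
      rw [Submodule.span_le]
      intro g hg
      have h1 : mm g ≤ m := le_trans (Finset.le_sup (f := mm) hg) (le_max_right _ _)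
      show uI I hm ≫ g = 0
      rw [← uI_trans I (hmm g) h1, Category.assoc, hzero g, comp_zero]
    intro g
    have : g ∈ Submodule.span A (s : Set (Dual.inD A (A ⧸ I ^ n) ⟶ ω⟦(0 : ℤ)⟧)) := by
      rw [hs]
      trivial
    exact hle this
  refine ⟨m, hm, fun g => ?_⟩
  have h1 := hall (g ≫ ((shiftFunctorZero (Dual.D A) ℤ).app ω).inv)
  rw [← Category.assoc] at h1
  exact (cancel_mono ((shiftFunctorZero (Dual.D A) ℤ).app ω).inv).mp (h1.trans zero_comp.symm)

include hω hn in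
/-- `H^0_I(ω) = 0` forces the `𝔪`-power torsion of `A ⧸ Iᵐ` to die in `A ⧸ Iⁿ` for `m ≫ n` -/
theorem exists_stage_torsion (h0 : Subsingleton (Dual2.HDI A I ω 0)) (n : ℕ) :
    ∃ m : ℕ, n ≤ m ∧ ∀ (y : A) (k : ℕ),
      (∀ a ∈ IsLocalRing.maximalIdeal A ^ k, a * y ∈ I ^ m) → y ∈ I ^ n := by
  obtain ⟨E, _, _, f, hf⟩ := Groth.Agent.S0299.result A (IsLocalRing.ResidueField A)
  obtain ⟨j, hcompat, hinj, hsurj⟩ := exists_compatible (isMatlis_homD ω hω hn) f hf
  obtain ⟨m, hm, hall⟩ := exists_uniform_stage ω hω I h0 n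
  refine ⟨m, hm, fun y k hy => ?_⟩
  have hgood : Good ω j hcompat (Dual.inD A (A ⧸ I ^ n)) :=
    (goodAll_of_finite ω hω hn f hf j hcompat hinj hsurj (A ⧸ I ^ n)).good
  -- the torsion element as a morphism
  let ybar : Mn I m := (Submodule.Quotient.mk y : A ⧸ I ^ m)
  have hyb : ∀ a ∈ IsLocalRing.maximalIdeal A ^ k, a • ybar = 0 := by
    intro a ha
    show a • (Submodule.Quotient.mk y : A ⧸ I ^ m) = 0
    rw [← Submodule.Quotient.mk_smul, Submodule.Quotient.mk_eq_zero]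
    exact hy a ha
  let e : Mn (IsLocalRing.maximalIdeal A) k ⟶ Mn I m :=
    ofElem (IsLocalRing.maximalIdeal A) k (Mn I m) ybar hyb
  let xy : Qn A k ⟶ Dual.inD A (A ⧸ I ^ m) :=
    (DerivedCategory.singleFunctor (ModuleCat.{u} A) 0).map e
  let t : T (Dual.inD A (A ⧸ I ^ m)) := T.of _ k xy
  have hT : T.map (uI I hm) t = 0 := by
    apply hgood.1
    rw [map_zero]
    have h1 := LinearMap.congr_fun (φ_naturality ω j hcompat (uI I hm)) t
    simp only [LinearMap.comp_apply] at h1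
    rw [h1]
    refine LinearMap.ext fun g => ?_
    rw [S.map_apply, hall g, map_zero]
    rfl
  rw [T.map_of] at hT
  obtain ⟨k', hk', h2⟩ := T.of_eq_zero _ hT
  have h3 : (DerivedCategory.singleFunctor (ModuleCat.{u} A) 0).map
      (ModuleCat.ofHom (qmap hk') ≫ e ≫ πmn I hm) = 0 := by
    rw [Functor.map_comp, Functor.map_comp]
    exact h2
  have h4 : ModuleCat.ofHom (qmap hk') ≫ e ≫ πmn I hm = 0 :=
    (DerivedCategory.singleFunctor (ModuleCat.{u} A) 0).map_injective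
      (h3.trans (CategoryTheory.Functor.map_zero _ _ _).symm)
  have h5 := congrArg (fun ψ => ψ.hom (one (IsLocalRing.maximalIdeal A) k')) h4
  have h5a : (πmn I hm).hom (e.hom ((qmap hk') (one (IsLocalRing.maximalIdeal A) k'))) = 0 := h5
  have h5b : (qmap hk') (one (IsLocalRing.maximalIdeal A) k') =
      one (IsLocalRing.maximalIdeal A) k := rfl
  rw [h5b, ofElem_one] at h5a
  have h6 : (Submodule.Quotient.mk y : A ⧸ I ^ n) = 0 := h5a
  exact (Submodule.Quotient.mk_eq_zero _).mp h6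

end Duality

end Groth.Agent.Lib.Helper36.LD
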