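import Mathlib
import Groth.Prelude.Def_Wider
import Groth.Prelude.Def_DualLC
import Groth.Agent.Lib.Helper41.HT
import Groth.Agent.Lib.Helper6.RGammaColim
import Groth.Agent.Lib.Helper14.DualPointwise

/-!
# The functor `G_T(K) = colim_{V(J) ⊆ T} Hom_{D(A)}(A ⧸ J, K)` (helper36)

Element-level API (as a `Module.DirectLimit`), comparison with `Dual2.HDT`, and exactness on
(shifted) distinguished triangles.
-/

set_option autoImplicit false
universe u
open CategoryTheory CategoryTheory.Limits CategoryTheory.Pretriangulated Opposite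
attribute [local instance] HasDerivedCategory.standard

namespace Groth.Agent.Lib.Helper36.LD.HT

open Dual2 Groth.Agent.Lib.Helper41.HTL

variable {A : Type u} [CommRing A]

/-- index type: ideals `J` with `V(J) ⊆ T`, ordered by reverse inclusion -/
structure Idx (T : Set (PrimeSpectrum A)) where
  J : Ideal A
  h : PrimeSpectrum.zeroLocus (J : Set A) ⊆ T

variable (T : Set (PrimeSpectrum A))

instance : Preorder (Idx T) where
  le a b := b.J ≤ a.J
  le_refl a := le_refl a.J
  le_trans _ _ _ h h' := le_trans h' h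

/-- intersection of two indices -/
def Idx.inf (a b : Idx T) : Idx T := ⟨a.J ⊓ b.J, by
  rw [PrimeSpectrum.zeroLocus_inf]
  exact Set.union_subset a.h b.h⟩

/-- product of two indices -/
def Idx.mul (a b : Idx T) : Idx T := ⟨a.J * b.J, by
  rw [PrimeSpectrum.zeroLocus_mul]
  exact Set.union_subset a.h b.h⟩

/-- the unit ideal -/
def Idx.top : Idx T := ⟨⊤, by
  intro p hp
  exact absurd (hp (Submodule.mem_top : (1 : A) ∈ (⊤ : Ideal A))) (p.isPrime.one_notMem)⟩

lemma Idx.le_inf_left (a b : Idx T) : a ≤ Idx.inf T a b := (inf_le_left : a.J ⊓ b.J ≤ a.J)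
lemma Idx.le_inf_right (a b : Idx T) : b ≤ Idx.inf T a b := (inf_le_right : a.J ⊓ b.J ≤ b.J)

instance : IsDirected (Idx T) (· ≤ ·) :=
  ⟨fun a b => ⟨Idx.inf T a b, Idx.le_inf_left T a b, Idx.le_inf_right T a b⟩⟩

instance : Nonempty (Idx T) := ⟨Idx.top T⟩

noncomputable instance : DecidableEq (Idx T) := Classical.decEq _

/-- conversion to the Prelude's index category -/
def Idx.toI {T : Set (PrimeSpectrum A)} (a : Idx T) : IdealsIn T := ⟨a.J, a.h⟩

/-- conversion from the Prelude's index category -/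
def Idx.ofI {T : Set (PrimeSpectrum A)} (J : IdealsIn T) : Idx T := ⟨J.obj, J.property⟩

/-- `A ⧸ J` as an object of `D(A)` -/
noncomputable abbrev QD (a : Idx T) : Dual.D A := Dual.inD A (A ⧸ a.J)

/-- the projections `A ⧸ J_b → A ⧸ J_a` -/
noncomputable def qm {a b : Idx T} (h : a ≤ b) :
    ModuleCat.of A (A ⧸ b.J) ⟶ ModuleCat.of A (A ⧸ a.J) :=
  ModuleCat.ofHom (Submodule.mapQ b.J a.J LinearMap.id (fun _ hx => h hx))

lemma qm_refl (a : Idx T) : qm T (le_refl a) = 𝟙 _ := by
  refine ModuleCat.hom_ext (LinearMap.ext fun x => ?_)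
  obtain ⟨x, rfl⟩ := Submodule.Quotient.mk_surjective _ x
  rfl

lemma qm_trans {a b c : Idx T} (h : a ≤ b) (h' : b ≤ c) :
    qm T h' ≫ qm T h = qm T (h.trans h') := by
  refine ModuleCat.hom_ext (LinearMap.ext fun x => ?_)
  obtain ⟨x, rfl⟩ := Submodule.Quotient.mk_surjective _ x
  rfl

/-- the projections in `D(A)` -/
noncomputable def qD {a b : Idx T} (h : a ≤ b) : QD T b ⟶ QD T a :=
  (DerivedCategory.singleFunctor (ModuleCat.{u} A) 0).map (qm T h)

lemma qD_refl (a : Idx T) : qD T (le_refl a) = 𝟙 _ := by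
  unfold qD
  rw [qm_refl, CategoryTheory.Functor.map_id]

lemma qD_trans {a b c : Idx T} (h : a ≤ b) (h' : b ≤ c) :
    qD T h' ≫ qD T h = qD T (h.trans h') := by
  unfold qD
  rw [← Functor.map_comp, qm_trans]

section G

variable (K : Dual.D A)

/-- transition maps -/
noncomputable def tmap (a b : Idx T) (h : a ≤ b) : (QD T a ⟶ K) →ₗ[A] (QD T b ⟶ K) :=
  Linear.leftComp A K (qD T h)

instance : DirectedSystem (fun a : Idx T => (QD T a ⟶ K)) (fun a b h => tmap T K a b h) where
  map_self a x := by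
    show qD T (le_refl a) ≫ x = x
    rw [qD_refl, Category.id_comp]
  map_map a b c h h' x := by
    show qD T h' ≫ qD T h ≫ x = qD T (h.trans h') ≫ x
    rw [← Category.assoc, qD_trans]

/-- `colim_J Hom(A ⧸ J, K)` -/
noncomputable abbrev G : Type (u + 1) :=
  Module.DirectLimit (fun a : Idx T => (QD T a ⟶ K)) (tmap T K)

/-- the class of a morphism -/
noncomputable abbrev G.of (a : Idx T) : (QD T a ⟶ K) →ₗ[A] G T K :=
  Module.DirectLimit.of A (Idx T) (fun a : Idx T => (QD T a ⟶ K)) (tmap T K) a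

lemma G.of_q {a b : Idx T} (h : a ≤ b) (x : QD T a ⟶ K) :
    G.of T K b (qD T h ≫ x) = G.of T K a x :=
  Module.DirectLimit.of_f (f := tmap T K) (hij := h) (x := x)

lemma G.exists_of (t : G T K) : ∃ (a : Idx T) (x : QD T a ⟶ K), G.of T K a x = t :=
  Module.DirectLimit.exists_of t

lemma G.of_eq_zero {a : Idx T} {x : QD T a ⟶ K} (h : G.of T K a x = 0) :
    ∃ (b : Idx T) (hb : a ≤ b), qD T hb ≫ x = 0 :=
  Module.DirectLimit.of.zero_exact h

/-- every element is killed by an ideal `J` with `V(J) ⊆ T` -/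
lemma G.exists_smul_eq_zero (t : G T K) : ∃ a : Idx T, ∀ r ∈ a.J, r • t = 0 := by
  obtain ⟨a, x, rfl⟩ := G.exists_of T K t
  refine ⟨a, fun r hr => ?_⟩
  rw [← map_smul, Groth.Agent.Lib.Helper14.DualPointwise.smul_hom_quot_eq_zero a.J r hr x, map_zero]

variable {K}

/-- functoriality -/
noncomputable def G.map {K' : Dual.D A} (u : K ⟶ K') : G T K →ₗ[A] G T K' :=
  Module.DirectLimit.map (fun a => Linear.rightComp A (QD T a) u) (fun a b h => by
    refine LinearMap.ext fun x => ?_
    show (qD T h ≫ x) ≫ u = qD T h ≫ x ≫ u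
    rw [Category.assoc])

lemma G.map_of {K' : Dual.D A} (u : K ⟶ K') (a : Idx T) (x : QD T a ⟶ K) :
    G.map T u (G.of T K a x) = G.of T K' a (x ≫ u) :=
  Module.DirectLimit.map_apply_of _ _ _

lemma G.map_id (t : G T K) : G.map T (𝟙 K) t = t := by
  obtain ⟨a, x, rfl⟩ := G.exists_of T K t
  rw [G.map_of, Category.comp_id]

lemma G.map_comp {K' K'' : Dual.D A} (u : K ⟶ K') (v : K' ⟶ K'') (t : G T K) :
    G.map T (u ≫ v) t = G.map T v (G.map T u t) := by
  obtain ⟨a, x, rfl⟩ := G.exists_of T K t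
  rw [G.map_of, G.map_of, G.map_of, Category.assoc]

/-- isomorphic objects have isomorphic `G` -/
noncomputable def G.congr {K' : Dual.D A} (e : K ≅ K') : G T K ≃ₗ[A] G T K' :=
  LinearEquiv.ofLinear (G.map T e.hom) (G.map T e.inv)
    (LinearMap.ext fun t => by
      show G.map T e.hom (G.map T e.inv t) = t
      rw [← G.map_comp, e.inv_hom_id, G.map_id])
    (LinearMap.ext fun t => by
      show G.map T e.inv (G.map T e.hom t) = t
      rw [← G.map_comp, e.hom_inv_id, G.map_id])

end G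

section Exact

/-- exactness of `Hom(Q, -)` on shifted distinguished triangles -/
lemma exists_lift_shift (Tr : Triangle (Dual.D A)) (hTr : Tr ∈ distTriang (Dual.D A)) (i : ℤ)
    {Q : Dual.D A} (x : Q ⟶ Tr.obj₂⟦i⟧) (hx : x ≫ Tr.mor₂⟦i⟧' = 0) :
    ∃ y : Q ⟶ Tr.obj₁⟦i⟧, y ≫ Tr.mor₁⟦i⟧' = x := by
  have hsh := Triangle.shift_distinguished _ hTr i
  have h0 : x ≫ ((Triangle.shiftFunctor (Dual.D A) i).obj Tr).mor₂ = 0 := by
    show x ≫ (i.negOnePow • Tr.mor₂⟦i⟧') = 0
    rw [Units.smul_def, Preadditive.comp_zsmul, hx, smul_zero]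
  obtain ⟨y, hy'⟩ : ∃ y : Q ⟶ Tr.obj₁⟦i⟧, x = y ≫ (i.negOnePow • Tr.mor₁⟦i⟧') :=
    Triangle.coyoneda_exact₂ _ hsh x h0
  refine ⟨i.negOnePow • y, ?_⟩
  rw [hy', Units.smul_def, Units.smul_def, Preadditive.zsmul_comp, Preadditive.comp_zsmul]

/-- `G` is exact in the middle on shifted distinguished triangles -/
theorem G.exact_shift (Tr : Triangle (Dual.D A)) (hTr : Tr ∈ distTriang (Dual.D A)) (i : ℤ) :
    Function.Exact (G.map T (Tr.mor₁⟦i⟧')) (G.map T (Tr.mor₂⟦i⟧')) := by
  intro t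
  constructor
  · intro ht
    obtain ⟨a, x, rfl⟩ := G.exists_of T _ t
    rw [G.map_of] at ht
    obtain ⟨b, hb, h0⟩ := G.of_eq_zero T _ ht
    rw [← Category.assoc] at h0
    obtain ⟨y, hy⟩ := exists_lift_shift Tr hTr i (qD T hb ≫ x) h0
    refine ⟨G.of T _ b y, ?_⟩
    rw [G.map_of, hy, G.of_q]
  · rintro ⟨s, rfl⟩
    obtain ⟨a, x, rfl⟩ := G.exists_of T _ s
    rw [G.map_of, G.map_of, Category.assoc, ← Functor.map_comp,
      comp_distTriang_mor_zero₁₂ _ hTr, CategoryTheory.Functor.map_zero, comp_zero, map_zero]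

end Exact

section Compare

variable (K : Dual.D A)

/-- the diagram defining `Dual2.HDT` (with the shift absorbed in `K`) -/
noncomputable abbrev DG : (IdealsIn T)ᵒᵖ ⥤ ModuleCat.{u + 1} A :=
  (localCohomology.ringModIdeals (idealsInDiagram T) ⋙
      DerivedCategory.singleFunctor (ModuleCat.{u} A) 0).op ⋙
    (linearYoneda A (Dual.D A)).obj K

/-- the cocone on the module-theoretic direct limit -/
noncomputable def coconeG : Cocone (DG T K) where
  pt := ModuleCat.of A (G T K)
  ι :=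
    { app := fun J => ModuleCat.ofHom (G.of T K (Idx.ofI J.unop))
      naturality := fun J J' w => by
        ext x
        have h : Idx.ofI J.unop ≤ Idx.ofI J'.unop := le_of_hom T w.unop
        exact G.of_q T K h x }

/-- the comparison map is bijective -/
theorem bijective_desc : Function.Bijective (colimit.desc (DG T K) (coconeG T K)).hom := by
  constructor
  · rw [← LinearMap.ker_eq_bot, LinearMap.ker_eq_bot']
    intro c hc
    obtain ⟨j, x, rfl⟩ := Groth.Agent.Lib.Helper6.RGammaColim.colimit_exists_rep' (DG T K) c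
    have h1 : (colimit.desc (DG T K) (coconeG T K)).hom ((colimit.ι (DG T K) j).hom x) =
        ((coconeG T K).ι.app j).hom x := by
      rw [← LinearMap.comp_apply, ← ModuleCat.hom_comp, colimit.ι_desc]
    have hc' : G.of T K (Idx.ofI j.unop) x = 0 := h1.symm.trans hc
    obtain ⟨b, hb, h3⟩ := G.of_eq_zero T K hc'
    let w : j ⟶ op b.toI := (homLE T (J := b.toI) (J' := j.unop) hb).op
    have h4 : ((DG T K).map w).hom x = 0 := h3
    have h5 := colimit.w (DG T K) w
    have h6 : (colimit.ι (DG T K) j).hom x =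
        (colimit.ι (DG T K) (op b.toI)).hom (((DG T K).map w).hom x) := by
      rw [← h5]
      rfl
    rw [h6, h4, map_zero]
  · intro t
    obtain ⟨a, x, rfl⟩ := G.exists_of T K t
    refine ⟨(colimit.ι (DG T K) (op a.toI)).hom x, ?_⟩
    rw [← LinearMap.comp_apply, ← ModuleCat.hom_comp, colimit.ι_desc]
    rfl

/-- `Dual2.HDT A T K i ≃ G_T(K⟦i⟧)` -/
noncomputable def hdtEquiv (i : ℤ) : Dual2.HDT A T K i ≃ₗ[A] G T (K⟦i⟧) :=
  LinearEquiv.ofBijective (colimit.desc (DG T (K⟦i⟧)) (coconeG T (K⟦i⟧))).hom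
    (bijective_desc T (K⟦i⟧))

end Compare

end Groth.Agent.Lib.Helper36.LD.HT
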