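import Mathlib
import Groth.Agent.Lib.Helper36.LD.HT
import Groth.Agent.Lib.Helper41.HTFin
import Groth.Agent.Lib.Helper12.DRingCanTrunc

/-!
# Vanishing and finiteness of `G_T` on shifted modules (helper36)
-/

set_option autoImplicit false
universe u
open CategoryTheory CategoryTheory.Limits CategoryTheory.Pretriangulated Opposite
  CategoryTheory.Abelian
attribute [local instance] HasDerivedCategory.standard

namespace Groth.Agent.Lib.Helper36.LD.HT

open Dual2 Groth.Agent.Lib.Helper41.HTL Groth.Agent.Lib.Helper12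

variable {A : Type u} [CommRing A] (T : Set (PrimeSpectrum A))

section Low

/-- `G_T(K⟦i⟧) = 0` below the cohomological range of `K` -/
theorem subsingleton_G_of_lt (K : Dual.D A) (a : ℤ)
    (hKa : ∀ i : ℤ, i < a → Subsingleton (Dual.HD A K i)) (i : ℤ) (hi : i < a) :
    Subsingleton (G T (K⟦i⟧)) := by
  have hK : DerivedCategory.IsGE K a := by
    rw [DerivedCategory.isGE_iff]
    intro j hj
    have := hKa j hj
    exact ModuleCat.isZero_of_subsingleton _
  refine subsingleton_of_forall_eq 0 fun t => ?_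
  obtain ⟨c, x, rfl⟩ := G.exists_of T _ t
  have h1 : DerivedCategory.TStructure.t.IsLE (QD T c) 0 := by
    dsimp only [QD, Dual.inD]; infer_instance
  have h3 : DerivedCategory.TStructure.t.IsGE (K⟦i⟧) (a - i) :=
    DerivedCategory.TStructure.t.isGE_shift _ a i (a - i) (by omega)
  have hx : x = 0 :=
    DerivedCategory.TStructure.t.zero_of_isLE_of_isGE x 0 (a - i) (by omega) h1 h3
  rw [hx, map_zero]

end Low

section Bridge

variable (N : Type u) [AddCommGroup N] [Module A N] (k : ℕ)

/-- `Ext` groups as morphisms in `D(A)` -/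
noncomputable def extHomI (J : IdealsIn T) :
    Ext.{u} (Q T J) (ModuleCat.of A N) k ≃ₗ[A]
      ((DerivedCategory.singleFunctor (ModuleCat.{u} A) 0).obj (Q T J) ⟶
        (Dual.inD A N)⟦(k : ℤ)⟧) :=
  Ext.homLinearEquiv

lemma extHomI_comp {J J' : IdealsIn T} (f : J' ⟶ J)
    (e : Ext.{u} (Q T J) (ModuleCat.of A N) k) :
    extHomI T N k J' ((Ext.mk₀ (projM T f)).comp e (zero_add k)) =
      (DerivedCategory.singleFunctor (ModuleCat.{u} A) 0).map (projM T f) ≫
        extHomI T N k J e := by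
  show ((Ext.mk₀ (projM T f)).comp e (zero_add k)).hom = _ ≫ e.hom
  rw [Ext.comp_hom, Ext.mk₀_hom, ShiftedHom.mk₀_comp]

/-- the comparison at level `a` -/
noncomputable def bridgeAt (a : Idx T) : (QD T a ⟶ (Dual.inD A N)⟦(k : ℤ)⟧) →ₗ[A]
    HTobj T k (ModuleCat.of A N) :=
  ιH T k (ModuleCat.of A N) a.toI ∘ₗ (extHomI T N k a.toI).symm.toLinearMap

lemma bridgeAt_compat (a b : Idx T) (h : a ≤ b) (x : QD T a ⟶ (Dual.inD A N)⟦(k : ℤ)⟧) :
    bridgeAt T N k b (tmap T _ a b h x) = bridgeAt T N k a x := by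
  obtain ⟨e, rfl⟩ := (extHomI T N k a.toI).surjective x
  let f : b.toI ⟶ a.toI := homLE T (J := b.toI) (J' := a.toI) h
  have h1 : tmap T _ a b h (extHomI T N k a.toI e) =
      extHomI T N k b.toI ((Ext.mk₀ (projM T f)).comp e (zero_add k)) := by
    rw [extHomI_comp]
    rfl
  rw [h1]
  show ιH T k _ b.toI ((extHomI T N k b.toI).symm (extHomI T N k b.toI _)) =
    ιH T k _ a.toI ((extHomI T N k a.toI).symm (extHomI T N k a.toI e))
  rw [LinearEquiv.symm_apply_apply, LinearEquiv.symm_apply_apply, ιH_comp]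

/-- the comparison `G_T((inD N)⟦k⟧) → H^k_T(N)` -/
noncomputable def bridge : G T ((Dual.inD A N)⟦(k : ℤ)⟧) →ₗ[A] HTobj T k (ModuleCat.of A N) :=
  Module.DirectLimit.lift A (Idx T) _ _ (bridgeAt T N k) (bridgeAt_compat T N k)

lemma bridge_of (a : Idx T) (x : QD T a ⟶ (Dual.inD A N)⟦(k : ℤ)⟧) :
    bridge T N k (G.of T _ a x) = bridgeAt T N k a x := by
  unfold bridge
  rw [Module.DirectLimit.lift_of]

theorem bridge_bijective : Function.Bijective (bridge T N k) := by
  constructor
  · rw [← LinearMap.ker_eq_bot, LinearMap.ker_eq_bot']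
    intro t ht
    obtain ⟨a, x, rfl⟩ := G.exists_of T _ t
    rw [bridge_of] at ht
    obtain ⟨e, rfl⟩ := (extHomI T N k a.toI).surjective x
    have ht' : ιH T k (ModuleCat.of A N) a.toI e = 0 := by
      have : bridgeAt T N k a (extHomI T N k a.toI e) =
          ιH T k _ a.toI ((extHomI T N k a.toI).symm (extHomI T N k a.toI e)) := rfl
      rw [this, LinearEquiv.symm_apply_apply] at ht
      exact ht
    obtain ⟨J', f, hm⟩ := (ιH_eq_zero_iff a.toI e).mp ht'
    have hb : a ≤ Idx.ofI J' := le_of_hom T f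
    have h0 : (DerivedCategory.singleFunctor (ModuleCat.{u} A) 0).map (projM T f) ≫
        extHomI T N k a.toI e = 0 := by
      rw [← extHomI_comp, hm, map_zero]
    have h0' : qD T hb ≫ extHomI T N k a.toI e = 0 := h0
    rw [← G.of_q T _ hb, h0', map_zero]
  · intro y
    obtain ⟨J, e, rfl⟩ := exists_rep y
    refine ⟨G.of T _ (Idx.ofI J) (extHomI T N k J e), ?_⟩
    rw [bridge_of]
    show ιH T k _ J ((extHomI T N k J).symm (extHomI T N k J e)) = _
    rw [LinearEquiv.symm_apply_apply]

/-- `G_T((inD N)⟦k⟧) ≃ H^k_T(N)` -/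
noncomputable def bridgeEquiv : G T ((Dual.inD A N)⟦(k : ℤ)⟧) ≃ₗ[A] HTobj T k (ModuleCat.of A N) :=
  LinearEquiv.ofBijective (bridge T N k) (bridge_bijective T N k)

end Bridge

section Vanishing

variable [IsNoetherianRing A] (N : Type u) [AddCommGroup N] [Module A N]

omit [IsNoetherianRing A] in
lemma finite_of_subsingleton (X : Type*) [AddCommGroup X] [Module A X] [Subsingleton X] :
    Module.Finite A X :=
  Module.Finite.of_surjective (0 : A →ₗ[A] X) (fun _ => ⟨0, Subsingleton.elim _ _⟩)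

omit [IsNoetherianRing A] in
/-- `G_T((inD N)⟦i⟧) = 0` for `i < 0` -/
theorem subsingleton_G_inD_neg (i : ℤ) (hi : i < 0) :
    Subsingleton (G T ((Dual.inD A N)⟦i⟧)) := by
  refine subsingleton_of_forall_eq 0 fun t => ?_
  obtain ⟨c, x, rfl⟩ := G.exists_of T _ t
  have h1 : DerivedCategory.TStructure.t.IsLE (QD T c) 0 := by
    dsimp only [QD, Dual.inD]; infer_instance
  have h2 : DerivedCategory.TStructure.t.IsGE (Dual.inD A N) 0 := by
    dsimp only [Dual.inD]; infer_instance
  have h3 : DerivedCategory.TStructure.t.IsGE ((Dual.inD A N)⟦i⟧) (-i) :=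
    DerivedCategory.TStructure.t.isGE_shift _ 0 i (-i) (by omega)
  have hx : x = 0 := DerivedCategory.TStructure.t.zero_of_isLE_of_isGE x 0 (-i) (by omega) h1 h3
  rw [hx, map_zero]

/-- `G_T((inD N)⟦i⟧) = 0` for `i > 0` when `N` is `T`-torsion -/
theorem subsingleton_G_inD_pos (hN : IsTorsT T N) (i : ℤ) (hi : 0 < i) :
    Subsingleton (G T ((Dual.inD A N)⟦i⟧)) := by
  obtain ⟨k, rfl⟩ := Int.eq_ofNat_of_zero_le hi.le
  have hk : 0 < k := by exact_mod_cast hi
  have := subsingleton_of_isTorsT T k hk (ModuleCat.of A N) hN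
  exact (bridgeEquiv T N k).toEquiv.subsingleton

/-- `G_T((inD N)⟦0⟧)` is finite for finite `N` -/
theorem finite_G_inD_zero [Module.Finite A N] :
    Module.Finite A (G T ((Dual.inD A N)⟦(0 : ℤ)⟧)) := by
  have := finite_zero T N
  exact Module.Finite.equiv (bridgeEquiv T N 0).symm

/-- `G_T` of shifts of a module placed in degree `a` -/
noncomputable def GSingleEquiv (a i : ℤ) (M : ModuleCat.{u} A) :
    G T (((DerivedCategory.singleFunctor (ModuleCat.{u} A) a).obj M)⟦i⟧) ≃ₗ[A]
      G T ((Dual.inD A M)⟦i - a⟧) :=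
  G.congr T ((CategoryTheory.shiftFunctor (Dual.D A) i).mapIso (singleFunctorShiftIso a M) ≪≫
    ((shiftFunctorAdd' (Dual.D A) (-a) i (i - a) (by omega)).app (Dual.inD A M)).symm)

/-- `G_T(M[-a][i])` is finite for a finite `T`-torsion module `M` -/
theorem finite_G_single (a i : ℤ) (M : ModuleCat.{u} A) [Module.Finite A M]
    (hM : IsTorsT T M) :
    Module.Finite A (G T (((DerivedCategory.singleFunctor (ModuleCat.{u} A) a).obj M)⟦i⟧)) := by
  have hfin : Module.Finite A (G T ((Dual.inD A M)⟦i - a⟧)) := by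
    rcases lt_trichotomy (i - a) 0 with h | h | h
    · have := subsingleton_G_inD_neg T M (i - a) h
      exact finite_of_subsingleton _
    · rw [h]
      exact finite_G_inD_zero T M
    · have := subsingleton_G_inD_pos T M hM (i - a) h
      exact finite_of_subsingleton _
  exact Module.Finite.equiv (GSingleEquiv T a i M).symm

/-- `G_T(M[-a][i]) = 0` for `i ≠ a` for a `T`-torsion module `M` -/
theorem subsingleton_G_single (a i : ℤ) (hia : i ≠ a) (M : ModuleCat.{u} A)
    (hM : IsTorsT T M) :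
    Subsingleton (G T (((DerivedCategory.singleFunctor (ModuleCat.{u} A) a).obj M)⟦i⟧)) := by
  refine (GSingleEquiv T a i M).toEquiv.subsingleton_congr.mpr ?_
  rcases lt_or_gt_of_ne (sub_ne_zero.mpr hia) with h | h
  · exact subsingleton_G_inD_neg T M (i - a) h
  · exact subsingleton_G_inD_pos T M hM (i - a) h

end Vanishing

end Groth.Agent.Lib.Helper36.LD.HT
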