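import Mathlib
import Groth.Agent.Lib.Helper36.LD.HTVanish
import Groth.Agent.Lib.Helper36.HomologyLinear
import Groth.Agent.Lib.Helper41.LCVanish

/-!
# Killing the `T`-torsion of the lowest cohomology, and cones of regular elements (helper36)
-/

set_option autoImplicit false
universe u
open CategoryTheory CategoryTheory.Limits CategoryTheory.Pretriangulated Opposite
attribute [local instance] HasDerivedCategory.standard

namespace Groth.Agent.Lib.Helper36.LD.HT

open Dual2 Groth.Agent.Lib.Helper41.HTL Groth.Agent.Lib.Helper12 DerivedCategory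

variable {A : Type u} [CommRing A]

/-- naturality of `HFSingleIso` -/
lemma HFSingleIso_hom_naturality (n : ℤ) {M N : ModuleCat.{u} A} (f : M ⟶ N) :
    (HF A n).map ((DerivedCategory.singleFunctor (ModuleCat.{u} A) n).map f) ≫
        (HFSingleIso n N).hom = (HFSingleIso n M).hom ≫ f := by
  have h2 := (HomologicalComplex.homologyFunctorSingleIso (ModuleCat.{u} A)
    (ComplexShape.up ℤ) n).hom.naturality f
  have h1 := (DerivedCategory.homologyFunctorFactors (ModuleCat.{u} A) n).hom.naturality
    ((HomologicalComplex.single (ModuleCat.{u} A) (ComplexShape.up ℤ) n).map f)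
  let AN : (HF A n).obj ((DerivedCategory.singleFunctor (ModuleCat.{u} A) n).obj N) ⟶ _ :=
    (DerivedCategory.homologyFunctorFactors (ModuleCat.{u} A) n).hom.app
        ((HomologicalComplex.single (ModuleCat.{u} A) (ComplexShape.up ℤ) n).obj N)
  let AM : (HF A n).obj ((DerivedCategory.singleFunctor (ModuleCat.{u} A) n).obj M) ⟶ _ :=
    (DerivedCategory.homologyFunctorFactors (ModuleCat.{u} A) n).hom.app
        ((HomologicalComplex.single (ModuleCat.{u} A) (ComplexShape.up ℤ) n).obj M)
  let BN := (HomologicalComplex.homologyFunctorSingleIso (ModuleCat.{u} A)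
    (ComplexShape.up ℤ) n).hom.app N
  let BM := (HomologicalComplex.homologyFunctorSingleIso (ModuleCat.{u} A)
    (ComplexShape.up ℤ) n).hom.app M
  let H := (HomologicalComplex.homologyFunctor (ModuleCat.{u} A) (ComplexShape.up ℤ) n).map
        ((HomologicalComplex.single (ModuleCat.{u} A) (ComplexShape.up ℤ) n).map f)
  have h1' : (HF A n).map ((DerivedCategory.singleFunctor (ModuleCat.{u} A) n).map f) ≫ AN =
      AM ≫ H := h1
  have h2' : H ≫ BN = BM ≫ f := h2
  show (HF A n).map ((DerivedCategory.singleFunctor (ModuleCat.{u} A) n).map f) ≫ (AN ≫ BN) =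
    (AM ≫ BM) ≫ f
  rw [← Category.assoc, h1', Category.assoc, h2', Category.assoc]

section KillTorsion

variable [IsNoetherianRing A] (T : Set (PrimeSpectrum A))

/-- Killing the `T`-torsion of the lowest cohomology module by a cone. -/
theorem exists_kill_torsion (K : Dual.D A) (a : ℤ)
    (hKa : ∀ i : ℤ, i < a → Subsingleton (Dual.HD A K i))
    (hK : ∀ i : ℤ, Module.Finite A (Dual.HD A K i)) :
    ∃ (M' : ModuleCat.{u} A) (_ : Module.Finite A M') (_ : IsTorsT T M') (K'' : Dual.D A)
      (u : (DerivedCategory.singleFunctor (ModuleCat.{u} A) a).obj M' ⟶ K) (v : K ⟶ K'')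
      (w : K'' ⟶ ((DerivedCategory.singleFunctor (ModuleCat.{u} A) a).obj M')⟦(1 : ℤ)⟧),
      Triangle.mk u v w ∈ distTriang (Dual.D A) ∧
      (∀ i : ℤ, i < a → Subsingleton (Dual.HD A K'' i)) ∧
      (∀ i : ℤ, Module.Finite A (Dual.HD A K'' i)) ∧
      torsT T (Dual.HD A K'' a) = ⊥ := by
  -- the truncation
  have hGE : DerivedCategory.IsGE (truncTriangle K (a + 1)).obj₁ a := by
    rw [DerivedCategory.isGE_iff]
    intro i hi
    have hz : IsZero ((HF A i).obj K) := by
      have := hKa i hi
      exact ModuleCat.isZero_of_subsingleton _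
    exact IsZero.of_iso hz (HFTruncLTIso K (a + 1) i (by omega))
  have hLE : DerivedCategory.IsLE (truncTriangle K (a + 1)).obj₁ a := by
    rw [DerivedCategory.isLE_iff]
    intro i hi
    exact isZero_HF_truncLT K (a + 1) i (by omega)
  obtain ⟨M₀, ⟨e⟩⟩ := DerivedCategory.exists_iso_singleFunctor_obj_of_isGE_of_isLE
    (truncTriangle K (a + 1)).obj₁ a
  let α : (HF A a).obj ((DerivedCategory.singleFunctor (ModuleCat.{u} A) a).obj M₀) ≅
      (HF A a).obj K :=
    (HF A a).mapIso e.symm ≪≫ HFTruncLTIso K (a + 1) a (by omega)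
  let β : M₀ ≅ (HF A a).obj K := (HFSingleIso a M₀).symm ≪≫ α
  have hM₀ : Module.Finite A M₀ := by
    have := hK a
    exact Module.Finite.equiv β.symm.toLinearEquiv
  have hM₀N : IsNoetherian A M₀ := isNoetherian_of_isNoetherianRing_of_finite A M₀
  let M' : ModuleCat.{u} A := ModuleCat.of A (torsT T M₀)
  let ι : M' ⟶ M₀ := ModuleCat.ofHom (torsT T M₀).subtype
  have hM'fin : Module.Finite A M' := Module.IsNoetherian.finite A (torsT T M₀)
  have hM'tors : IsTorsT T M' := isTorsT_torsT T M₀
  let u : (DerivedCategory.singleFunctor (ModuleCat.{u} A) a).obj M' ⟶ K :=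
    (DerivedCategory.singleFunctor (ModuleCat.{u} A) a).map ι ≫ e.inv ≫
      (truncTriangle K (a + 1)).mor₁
  obtain ⟨K'', v, w, hTr⟩ := distinguished_cocone_triangle u
  -- the key relation
  have hR : (HFSingleIso a M').inv ≫ (HF A a).map u = ι ≫ β.hom := by
    have hnat := HFSingleIso_hom_naturality a ι
    have h1 : (HF A a).map u =
        (HF A a).map ((DerivedCategory.singleFunctor (ModuleCat.{u} A) a).map ι) ≫ α.hom := by
      show (HF A a).map (_ ≫ _ ≫ _) =
        _ ≫ ((HF A a).map e.inv ≫ (HF A a).map (truncTriangle K (a + 1)).mor₁)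
      rw [Functor.map_comp, Functor.map_comp]
    have h2 : (HFSingleIso a M').inv ≫
        (HF A a).map ((DerivedCategory.singleFunctor (ModuleCat.{u} A) a).map ι) =
        ι ≫ (HFSingleIso a M₀).inv := by
      rw [Iso.inv_comp_eq, ← Category.assoc, ← hnat, Category.assoc, Iso.hom_inv_id,
        Category.comp_id]
    rw [h1, ← Category.assoc, h2, Category.assoc]
    rfl
  have hR' : ∀ m' : M', ((HF A a).map u).hom ((HFSingleIso a M').inv.hom m') =
      β.hom.hom (ι.hom m') := fun m' => congrArg (fun ψ => ψ.hom m') hR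
  -- cohomology of the single
  have hS_lt : ∀ j : ℤ, j < a →
      IsZero ((HF A j).obj ((DerivedCategory.singleFunctor (ModuleCat.{u} A) a).obj M')) :=
    fun j hj => DerivedCategory.isZero_of_isGE _ a j hj
  have hS_gt : ∀ j : ℤ, a < j →
      IsZero ((HF A j).obj ((DerivedCategory.singleFunctor (ModuleCat.{u} A) a).obj M')) :=
    fun j hj => DerivedCategory.isZero_of_isLE _ a j hj
  -- `H^a(u)` is a monomorphism
  have hιinj : Function.Injective ι.hom := Subtype.val_injective
  have hmono : Mono ((HF A a).map u) := by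
    have h3 : (HF A a).map u = (HFSingleIso a M').hom ≫ ι ≫ β.hom := by
      rw [← hR, ← Category.assoc, Iso.hom_inv_id, Category.id_comp]
    have : Mono ι := (ModuleCat.mono_iff_injective _).mpr hιinj
    rw [h3]
    infer_instance
  -- the connecting maps vanish
  have hδ : ∀ i : ℤ, HomologySequence.δ (Triangle.mk u v w) i (i + 1) rfl = 0 := by
    intro i
    by_cases hi : i + 1 = a
    · have hm' : Mono ((HF A (i + 1)).map u) := by
        rw [hi]
        exact hmono
      exact (HomologySequence.mono_homologyMap_mor₁_iff (Triangle.mk u v w) hTr i (i + 1)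
        rfl).mp hm'
    · rcases lt_or_gt_of_ne hi with h | h
      · exact (hS_lt (i + 1) h).eq_of_tgt _ _
      · exact (hS_gt (i + 1) h).eq_of_tgt _ _
  have hepi : ∀ i : ℤ, Epi ((HF A i).map v) := fun i =>
    (HomologySequence.epi_homologyMap_mor₂_iff (Triangle.mk u v w) hTr i (i + 1) rfl).mpr (hδ i)
  have hsurj : ∀ i : ℤ, Function.Surjective ((HF A i).map v).hom := fun i =>
    (ModuleCat.epi_iff_surjective _).mp (hepi i)
  refine ⟨M', hM'fin, hM'tors, K'', u, v, w, hTr, ?_, ?_, ?_⟩
  · intro i hi
    have := hKa i hi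
    exact (hsurj i).subsingleton
  · intro i
    have := hK i
    exact Module.Finite.of_surjective ((HF A i).map v).hom (hsurj i)
  · rw [eq_bot_iff]
    rintro y ⟨J', hJ'⟩
    rw [Submodule.mem_bot]
    obtain ⟨z, rfl⟩ := hsurj a y
    obtain ⟨m, rfl⟩ : ∃ m : M₀, β.hom.hom m = z :=
      ⟨β.inv.hom z, by rw [← ModuleCat.comp_apply, Iso.inv_hom_id]; rfl⟩
    have hex : LinearMap.range ((HF A a).map u).hom = LinearMap.ker ((HF A a).map v).hom :=
      (HomologySequence.exact₂ _ hTr a).moduleCat_range_eq_ker
    have hm : ∀ c ∈ J'.obj, c • m ∈ torsT T M₀ := by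
      intro c hc
      have h1 : ((HF A a).map v).hom (c • β.hom.hom m) = 0 := by
        rw [map_smul]
        exact hJ' c hc
      have h2 : c • β.hom.hom m ∈ LinearMap.range ((HF A a).map u).hom := by
        have : c • β.hom.hom m ∈ LinearMap.ker ((HF A a).map v).hom := h1
        rw [← hex] at this
        exact this
      obtain ⟨s, hs⟩ := h2
      -- `s = σ⁻¹ m'`
      have hs' : s = (HFSingleIso a M').inv.hom ((HFSingleIso a M').hom.hom s) := by
        rw [← ModuleCat.comp_apply, Iso.hom_inv_id]; rfl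
      rw [hs', hR'] at hs
      have h3 : ι.hom ((HFSingleIso a M').hom.hom s) = c • m := by
        have hβinj : Function.Injective β.hom.hom := by
          intro x x' hx
          have := congrArg β.inv.hom hx
          rwa [← ModuleCat.comp_apply, ← ModuleCat.comp_apply, Iso.hom_inv_id] at this
        apply hβinj
        rw [hs, map_smul]
      rw [← h3]
      exact ((HFSingleIso a M').hom.hom s).2
    have hmem : m ∈ torsT T M₀ := by
      have h4 : (Submodule.Quotient.mk m : M₀ ⧸ torsT T M₀) ∈ torsT T (M₀ ⧸ torsT T M₀) :=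
        ⟨J', fun c hc => by
          rw [← Submodule.Quotient.mk_smul, Submodule.Quotient.mk_eq_zero]
          exact hm c hc⟩
      rw [torsT_quotient_eq_bot, Submodule.mem_bot, Submodule.Quotient.mk_eq_zero] at h4
      exact h4
    have h5 : β.hom.hom m = ((HF A a).map u).hom ((HFSingleIso a M').inv.hom ⟨m, hmem⟩) := by
      rw [hR']
      rfl
    rw [h5, ← ModuleCat.comp_apply, ← Functor.map_comp]
    have h6 : u ≫ v = 0 := comp_distTriang_mor_zero₁₂ _ hTr
    rw [h6, CategoryTheory.Functor.map_zero]
    rfl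

end KillTorsion

section RegularCone

variable [IsNoetherianRing A]

/-- The cone of multiplication by an element regular on the lowest cohomology module. -/
theorem exists_regular_cone (K : Dual.D A) (a : ℤ)
    (hKa : ∀ i : ℤ, i < a → Subsingleton (Dual.HD A K i))
    (hK : ∀ i : ℤ, Module.Finite A (Dual.HD A K i)) (f : A)
    (hf : IsSMulRegular (Dual.HD A K a) f) :
    ∃ (C : Dual.D A) (p : K ⟶ C) (q : C ⟶ K⟦(1 : ℤ)⟧),
      Triangle.mk (f • 𝟙 K) p q ∈ distTriang (Dual.D A) ∧
      (∀ i : ℤ, i < a → Subsingleton (Dual.HD A C i)) ∧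
      (∀ i : ℤ, Module.Finite A (Dual.HD A C i)) := by
  obtain ⟨C, p, q, hTr⟩ := distinguished_cocone_triangle (f • 𝟙 K)
  have hfmap : ∀ (i : ℤ) (y : (HF A i).obj K), ((HF A i).map (f • 𝟙 K)).hom y = f • y := by
    intro i y
    rw [Groth.Agent.Lib.Helper36.derivedCategory_homologyFunctor_map_smul,
      CategoryTheory.Functor.map_id]
    rfl
  have hpack : ∀ i : ℤ, ∃ d : ((HF A i).obj C) →ₗ[A] ((HF A (i + 1)).obj K),
      LinearMap.range ((HF A i).map p).hom = LinearMap.ker d ∧ ∀ y, f • d y = 0 := by
    intro i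
    refine ⟨(HomologySequence.δ (Triangle.mk (f • 𝟙 K) p q) i (i + 1) rfl).hom,
      (HomologySequence.exact₃ _ hTr i (i + 1) rfl).moduleCat_range_eq_ker, fun y => ?_⟩
    have h1 := congrArg (fun ψ => ψ.hom y)
      (HomologySequence.δ_comp (Triangle.mk (f • 𝟙 K) p q) hTr i (i + 1) rfl)
    exact (hfmap (i + 1) _).symm.trans h1
  refine ⟨C, p, q, hTr, ?_, ?_⟩
  · intro i hi
    obtain ⟨d, hex3, hδf⟩ := hpack i
    refine subsingleton_of_forall_eq 0 fun y => ?_
    have hδy : d y = 0 := by
      by_cases h1 : i + 1 = a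
      · have h2 := hδf y
        have hf' : IsSMulRegular (Dual.HD A K (i + 1)) f := by rw [h1]; exact hf
        exact hf' (h2.trans (smul_zero f).symm)
      · have := hKa (i + 1) (by omega)
        exact Subsingleton.elim _ _
    have hy : y ∈ LinearMap.range ((HF A i).map p).hom := by
      rw [hex3]
      exact hδy
    obtain ⟨z, rfl⟩ := hy
    have := hKa i hi
    rw [Subsingleton.elim z 0, map_zero]
  · intro i
    obtain ⟨d, hex3, -⟩ := hpack i
    have h1 := hK i
    have h2 := hK (i + 1)
    have n1 : IsNoetherian A ((HF A i).obj K) := isNoetherian_of_isNoetherianRing_of_finite A _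
    have n2 : IsNoetherian A ((HF A (i + 1)).obj K) :=
      isNoetherian_of_isNoetherianRing_of_finite A _
    have n3 : IsNoetherian A ((HF A i).obj C) :=
      isNoetherian_of_range_eq_ker ((HF A i).map p).hom d hex3
    exact Module.IsNoetherian.finite A _

end RegularCone

end Groth.Agent.Lib.Helper36.LD.HT
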