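import Mathlib
import Groth.Agent.Lib.Helper36.LD.HTCone

/-!
# Finiteness of `H^i_T(K)` for `i ≤ n` versus annihilation by an ideal (helper36)
-/

set_option autoImplicit false
universe u
open CategoryTheory CategoryTheory.Limits CategoryTheory.Pretriangulated Opposite
attribute [local instance] HasDerivedCategory.standard

namespace Groth.Agent.Lib.Helper36.LD.HT

open Dual2 Groth.Agent.Lib.Helper41.HTL Groth.Agent.Lib.Helper12 DerivedCategory

variable {A : Type u} [CommRing A] (T : Set (PrimeSpectrum A))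

lemma G.map_smul_id {K : Dual.D A} (r : A) (t : G T K) : G.map T (r • 𝟙 K) t = r • t := by
  obtain ⟨c, x, rfl⟩ := G.exists_of T K t
  rw [G.map_of, Linear.comp_smul, Category.comp_id, map_smul]

lemma G.map_neg' {K K' : Dual.D A} (u : K ⟶ K') (t : G T K) :
    G.map T (-u) t = -(G.map T u t) := by
  obtain ⟨c, x, rfl⟩ := G.exists_of T K t
  rw [G.map_of, G.map_of, Preadditive.comp_neg, map_neg]

/-- `G_T(K⟦1⟧⟦i⟧) ≃ G_T(K⟦j⟧)` for `1 + i = j` -/
noncomputable def GShiftOne (K : Dual.D A) (i j : ℤ) (h : 1 + i = j) :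
    G T (K⟦(1 : ℤ)⟧⟦i⟧) ≃ₗ[A] G T (K⟦j⟧) :=
  G.congr T ((shiftFunctorAdd' (Dual.D A) 1 i j h).app K).symm

lemma finite_of_exact [IsNoetherianRing A] {M N P : Type*} [AddCommGroup M] [Module A M]
    [AddCommGroup N] [Module A N] [AddCommGroup P] [Module A P] (f : M →ₗ[A] N) (g : N →ₗ[A] P)
    (h : Function.Exact f g) [Module.Finite A M] [Module.Finite A P] : Module.Finite A N := by
  have n1 : IsNoetherian A M := isNoetherian_of_isNoetherianRing_of_finite A _
  have n2 : IsNoetherian A P := isNoetherian_of_isNoetherianRing_of_finite A _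
  have n3 : IsNoetherian A N := isNoetherian_of_range_eq_ker f g (LinearMap.exact_iff.mp h).symm
  exact Module.IsNoetherian.finite A _

/-- a finite `G_T(K)` is killed by an ideal `J` with `V(J) ⊆ T` -/
lemma exists_kill_of_finite (K : Dual.D A) (hfin : Module.Finite A (G T K)) :
    ∃ b : Idx T, ∀ r ∈ b.J, ∀ y : G T K, r • y = 0 := by
  classical
  obtain ⟨s, hs⟩ := hfin.fg_top
  have key : ∀ s : Finset (G T K), ∃ b : Idx T, ∀ r ∈ b.J,
      ∀ y ∈ Submodule.span A (s : Set (G T K)), r • y = 0 := by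
    intro s
    induction s using Finset.induction_on with
    | empty =>
      refine ⟨Idx.top T, fun r _ y hy => ?_⟩
      rw [Finset.coe_empty, Submodule.span_empty, Submodule.mem_bot] at hy
      rw [hy, smul_zero]
    | insert x s hx ih =>
      obtain ⟨b₁, h₁⟩ := ih
      obtain ⟨b₂, h₂⟩ := G.exists_smul_eq_zero T K x
      refine ⟨Idx.inf T b₁ b₂, fun r hr y hy => ?_⟩
      rw [Finset.coe_insert, Submodule.mem_span_insert] at hy
      obtain ⟨c, z, hz, rfl⟩ := hy
      rw [smul_add, smul_comm, h₂ r hr.2, smul_zero, h₁ r hr.1 z hz, add_zero]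
  obtain ⟨b, hb⟩ := key s
  exact ⟨b, fun r hr y => hb r hr y (by rw [hs]; trivial)⟩

/-- finite for `i ≤ n` implies uniformly annihilated -/
theorem exists_kill_of_finite_le (K : Dual.D A) (a : ℤ)
    (hKa : ∀ i : ℤ, i < a → Subsingleton (Dual.HD A K i)) (m : ℕ) :
    ∀ n : ℤ, n < a + m → (∀ i : ℤ, i ≤ n → Module.Finite A (G T (K⟦i⟧))) →
      ∃ b : Idx T, ∀ i : ℤ, i ≤ n → ∀ r ∈ b.J, ∀ y : G T (K⟦i⟧), r • y = 0 := by
  induction m with
  | zero =>
    intro n hn _
    refine ⟨Idx.top T, fun i hi r _ y => ?_⟩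
    have := subsingleton_G_of_lt T K a hKa i (by simp at hn; omega)
    exact Subsingleton.elim _ _
  | succ m ih =>
    intro n hn hfin
    obtain ⟨b₁, h₁⟩ := ih (n - 1) (by push_cast at hn; omega) (fun i hi => hfin i (by omega))
    obtain ⟨b₂, h₂⟩ := exists_kill_of_finite T _ (hfin n le_rfl)
    refine ⟨Idx.inf T b₁ b₂, fun i hi r hr y => ?_⟩
    rcases lt_or_eq_of_le hi with h | rfl
    · exact h₁ i (by omega) r hr.1 y
    · exact h₂ r hr.2 y

variable [IsNoetherianRing A]

/-- uniformly annihilated for `i ≤ n` implies finite -/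
theorem finite_of_kill (m : ℕ) : ∀ (K : Dual.D A) (a n : ℤ), n < a + m →
    (∀ i : ℤ, i < a → Subsingleton (Dual.HD A K i)) →
    (∀ i : ℤ, Module.Finite A (Dual.HD A K i)) →
    ∀ b : Idx T, (∀ i : ℤ, i ≤ n → ∀ r ∈ b.J, ∀ y : G T (K⟦i⟧), r • y = 0) →
    ∀ i : ℤ, i ≤ n → Module.Finite A (G T (K⟦i⟧)) := by
  induction m with
  | zero =>
    intro K a n hn hKa _ b _ i hi
    have := subsingleton_G_of_lt T K a hKa i (by simp at hn; omega)
    exact finite_of_subsingleton _
  | succ m ih =>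
    intro K a n hn hKa hK b hb i hi
    obtain ⟨M', hM'fin, hM'tors, K'', u, v, w, hTr, hK''a, hK'', htf⟩ :=
      exists_kill_torsion T K a hKa hK
    -- Step 1: `b` kills `G(K''⟦i⟧)` for `i ≤ n`
    have hb'' : ∀ i : ℤ, i ≤ n → ∀ r ∈ b.J, ∀ y : G T (K''⟦i⟧), r • y = 0 := by
      intro i hi r hr y
      by_cases hia : i < a
      · have := subsingleton_G_of_lt T K'' a hK''a i hia
        exact Subsingleton.elim _ _
      · have hsub : Subsingleton
            (G T (((DerivedCategory.singleFunctor (ModuleCat.{u} A) a).obj M')⟦(1 : ℤ)⟧⟦i⟧)) := by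
          have := subsingleton_G_single T a (1 + i) (by omega) M' hM'tors
          exact (GShiftOne T _ i (1 + i) rfl).toEquiv.subsingleton
        have hex : Function.Exact (G.map T (v⟦i⟧')) (G.map T (w⟦i⟧')) :=
          G.exact_shift T (Triangle.mk u v w).rotate (rot_of_distTriang _ hTr) i
        obtain ⟨y', rfl⟩ := (hex y).mp (Subsingleton.elim _ _)
        rw [← map_smul, hb i hi r hr y', map_zero]
    -- Step 2: a regular element
    have hpt : Groth.Agent.Lib.Helper41.LC.powTorsion b.J (Dual.HD A K'' a) = ⊥ := by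
      rw [eq_bot_iff, ← htf]
      exact powTorsion_le_torsT T b.toI _
    have hfinK''a := hK'' a
    obtain ⟨f, hfb, hreg⟩ :=
      Groth.Agent.Lib.Helper41.LC.exists_isSMulRegular_mem b.J (Dual.HD A K'' a) hpt
    -- Step 3: the cone
    obtain ⟨C, p, q, hTrC, hCa, hC⟩ := exists_regular_cone K'' a hK''a hK'' f hreg
    -- Step 4: `b * b` kills `G(C⟦i⟧)` for `i ≤ n - 1`
    have hbC : ∀ i : ℤ, i ≤ n - 1 → ∀ r ∈ (Idx.mul T b b).J, ∀ y : G T (C⟦i⟧), r • y = 0 := by
      intro i hi r hr y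
      have hex : Function.Exact (G.map T (p⟦i⟧')) (G.map T (q⟦i⟧')) :=
        G.exact_shift T (Triangle.mk (f • 𝟙 K'') p q).rotate (rot_of_distTriang _ hTrC) i
      have hkill1 : ∀ s ∈ b.J, ∀ z : G T (K''⟦(1 : ℤ)⟧⟦i⟧), s • z = 0 := by
        intro s hs z
        apply (GShiftOne T K'' i (1 + i) rfl).injective
        rw [map_smul, map_zero]
        exact hb'' (1 + i) (by omega) s hs _
      have hr' : r ∈ b.J * b.J := hr
      refine Submodule.mul_induction_on hr' ?_ ?_
      · intro c hc s hs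
        have h1 : G.map T (q⟦i⟧') (s • y) = 0 := by
          rw [map_smul]
          exact hkill1 s hs _
        obtain ⟨y', hy'⟩ := (hex (s • y)).mp h1
        rw [mul_smul, ← hy', ← map_smul, hb'' i (by omega) c hc y', map_zero]
      · intro x x' hx hx'
        rw [add_smul, hx, hx', add_zero]
    -- Step 5: induction
    have hCfin := ih C a (n - 1) (by push_cast at hn; omega) hCa hC (Idx.mul T b b) hbC
    -- Step 6: `G(K''⟦j⟧)` is finite for `j ≤ n`
    have hK''fin : ∀ j : ℤ, j ≤ n → Module.Finite A (G T (K''⟦j⟧)) := by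
      intro j hj
      have hex : Function.Exact (G.map T (q⟦j - 1⟧'))
          (G.map T ((-(f • 𝟙 K'')⟦(1 : ℤ)⟧')⟦j - 1⟧')) :=
        G.exact_shift T (Triangle.mk (f • 𝟙 K'') p q).rotate.rotate
          (rot_of_distTriang _ (rot_of_distTriang _ hTrC)) (j - 1)
      have hzero : ∀ z : G T (K''⟦(1 : ℤ)⟧⟦j - 1⟧),
          G.map T ((-(f • 𝟙 K'')⟦(1 : ℤ)⟧')⟦j - 1⟧') z = 0 := by
        intro z
        have h1 : (-(f • 𝟙 K'')⟦(1 : ℤ)⟧')⟦j - 1⟧' = -(f • 𝟙 (K''⟦(1 : ℤ)⟧⟦j - 1⟧)) := by
          rw [Functor.map_neg, Functor.map_smul, Functor.map_smul, CategoryTheory.Functor.map_id,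
            CategoryTheory.Functor.map_id]
        rw [h1, G.map_neg', G.map_smul_id, neg_eq_zero]
        apply (GShiftOne T K'' (j - 1) j (by omega)).injective
        rw [map_smul, map_zero]
        exact hb'' j hj f hfb _
      have hsurj : Function.Surjective (G.map T (q⟦j - 1⟧')) := fun z => (hex z).mp (hzero z)
      have := hCfin (j - 1) (by omega)
      have hfin1 : Module.Finite A (G T (K''⟦(1 : ℤ)⟧⟦j - 1⟧)) :=
        Module.Finite.of_surjective _ hsurj
      exact Module.Finite.equiv (GShiftOne T K'' (j - 1) j (by omega))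
    -- Step 7: conclude for `K`
    have hex : Function.Exact (G.map T (u⟦i⟧')) (G.map T (v⟦i⟧')) :=
      G.exact_shift T (Triangle.mk u v w) hTr i
    have h1 := finite_G_single T a i M' hM'tors
    have h3 := hK''fin i hi
    exact finite_of_exact _ _ hex

/-- the main equivalence, in terms of `G_T` -/
theorem finite_iff_kill (K : Dual.D A) (a : ℤ)
    (hKa : ∀ i : ℤ, i < a → Subsingleton (Dual.HD A K i))
    (hK : ∀ i : ℤ, Module.Finite A (Dual.HD A K i)) (n : ℤ) :
    (∀ i : ℤ, i ≤ n → Module.Finite A (G T (K⟦i⟧))) ↔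
      ∃ b : Idx T, ∀ i : ℤ, i ≤ n → ∀ r ∈ b.J, ∀ y : G T (K⟦i⟧), r • y = 0 := by
  have hm : n < a + ((n - a + 1).toNat : ℕ) := by omega
  constructor
  · intro h
    exact exists_kill_of_finite_le T K a hKa _ n hm h
  · rintro ⟨b, hb⟩
    exact finite_of_kill T _ K a n hm hKa hK b hb

end Groth.Agent.Lib.Helper36.LD.HT
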