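import Mathlib
import Groth.Agent.Lib.Helper36.LD.Bounded
import Groth.Agent.Lib.Helper14.DualPointwise
import Groth.Agent.S0299

/-!
# Uniqueness of dualizing complexes over a Noetherian local ring (helper36)

Two normalized dualizing complexes are isomorphic: local duality for both of them, and its
naturality, produce a split monomorphism `ω → ω'`; the complementary idempotent of `End(ω') = A`
is trivial because `A` is local.
-/

set_option autoImplicit false
universe u
open CategoryTheory CategoryTheory.Limits CategoryTheory.Pretriangulated Opposite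
attribute [local instance] HasDerivedCategory.standard

namespace Groth.Agent.Lib.Helper36.LD

open Groth.Agent.Lib.Helper36.Matlis Groth.Agent.Lib.Helper12 DRing

variable {A : Type u} [CommRing A] [IsLocalRing A] [IsNoetherianRing A]

omit [IsLocalRing A] [IsNoetherianRing A] in
/-- a dualizing complex has bounded cohomology -/
lemma exists_bounds_of_isDualizing (ω : Dual.D A) (hω : Dual.IsDualizing A ω) :
    ∃ a b : ℤ, ∀ i : ℤ, (i < a ∨ b < i) → Subsingleton (Dual.HD A ω i) := by
  obtain ⟨a, b, h⟩ := hω.finite_injective_dimension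
  refine ⟨a, b, fun i hi => ?_⟩
  have h1 : Subsingleton (Dual.inD A A ⟶ ω⟦i⟧) := h A i hi
  have h2 := Groth.Agent.Lib.Helper36.InjAmp.isZero_HF_of_hom_ring_eq_zero ω i
    (fun g => Subsingleton.elim g 0)
  exact ModuleCat.subsingleton_of_isZero h2

/-- a split monomorphism between normalized dualizing complexes -/
theorem exists_split (W W' : Dual.D A) (hW : Dual.IsDualizing A W)
    (hnW : Dual.IsNormalized A W) (hW' : Dual.IsDualizing A W')
    (hnW' : Dual.IsNormalized A W') : ∃ (u : W ⟶ W') (s : W' ⟶ W), u ≫ s = 𝟙 W := by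
  obtain ⟨E, _, _, f, hf⟩ := Groth.Agent.S0299.result A (IsLocalRing.ResidueField A)
  obtain ⟨j, hcompat, hinj, hsurj⟩ := exists_compatible (isMatlis_homD W hW hnW) f hf
  obtain ⟨j', hcompat', hinj', hsurj'⟩ := exists_compatible (isMatlis_homD W' hW' hnW') f hf
  obtain ⟨a, b, hab⟩ := exists_bounds_of_isDualizing W hW
  obtain ⟨a', b', hab'⟩ := exists_bounds_of_isDualizing W' hW'
  have g1 : Good W j hcompat W :=
    (goodAll_of_bounded W hW hnW f hf j hcompat hinj hsurj W a b hab hW.finite_cohomology).good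
  have g2 : Good W j hcompat W' :=
    (goodAll_of_bounded W hW hnW f hf j hcompat hinj hsurj W' a' b' hab'
      hW'.finite_cohomology).good
  have g3 : Good W' j' hcompat' W :=
    (goodAll_of_bounded W' hW' hnW' f hf j' hcompat' hinj' hsurj' W a b hab
      hW.finite_cohomology).good
  -- the socle functional on `End W = A`
  let toEnd : A →ₗ[A] (W ⟶ W) :=
    { toFun := fun a => a • 𝟙 W
      map_add' := fun x y => add_smul x y _
      map_smul' := fun x y => by
        show (x • y) • 𝟙 W = x • (y • 𝟙 W)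
        rw [smul_assoc] }
  have htoEnd : Function.Bijective toEnd := hW.toEnd_bijective
  let eEnd : A ≃ₗ[A] (W ⟶ W) := LinearEquiv.ofBijective toEnd htoEnd
  let ε : S W E W := (LinearMap.toSpanSingleton A E (f 1)) ∘ₗ eEnd.symm.toLinearMap
  have hε : ∀ a : A, ε (a • 𝟙 W) ≠ 0 → IsUnit a := by
    intro a ha
    by_contra hau
    apply ha
    have h1 : eEnd.symm (a • 𝟙 W) = a := by
      rw [LinearEquiv.symm_apply_eq]
      rfl
    show (LinearMap.toSpanSingleton A E (f 1)) (eEnd.symm (a • 𝟙 W)) = 0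
    rw [h1, LinearMap.toSpanSingleton_apply, ← map_smul]
    have h2 : a • (1 : IsLocalRing.ResidueField A) = 0 := by
      rw [Algebra.smul_def, mul_one]
      exact (IsLocalRing.residue_eq_zero_iff a).mpr ((IsLocalRing.mem_maximalIdeal a).mpr hau)
    rw [h2, map_zero]
  -- transport through `T`
  obtain ⟨t, ht⟩ := g1.2 ε
  have hε0 : ε ≠ 0 := by
    intro h0
    have h1 : ε ((1 : A) • 𝟙 W) ≠ 0 := by
      have h2 : eEnd.symm ((1 : A) • 𝟙 W) = 1 := by
        rw [LinearEquiv.symm_apply_eq]
        rfl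
      show (LinearMap.toSpanSingleton A E (f 1)) (eEnd.symm ((1 : A) • 𝟙 W)) ≠ 0
      rw [h2, LinearMap.toSpanSingleton_apply, one_smul]
      intro h3
      have h4 := hf.injective (h3.trans (map_zero f).symm)
      exact one_ne_zero h4
    rw [h0] at h1
    exact h1 rfl
  have ht0 : t ≠ 0 := by
    rintro rfl
    rw [map_zero] at ht
    exact hε0 ht.symm
  set ε' : S W' E W := φ W' j' hcompat' W t with hε'
  have hε'0 : ε' ≠ 0 := by
    intro h0
    exact ht0 (g3.1 (h0.trans (map_zero _).symm))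
  obtain ⟨u, hu⟩ : ∃ u : W ⟶ W', ε' u ≠ 0 := by
    by_contra hcon
    push Not at hcon
    exact hε'0 (LinearMap.ext hcon)
  have hTu : T.map u t ≠ 0 := by
    intro h0
    have h1 := LinearMap.congr_fun (φ_naturality W' j' hcompat' u) t
    simp only [LinearMap.comp_apply] at h1
    rw [h0, map_zero] at h1
    have h2 : (S.map u ε') (𝟙 W') = 0 := by
      rw [← h1]
      rfl
    rw [S.map_apply, Category.comp_id] at h2
    exact hu h2
  have hSu : S.map u ε ≠ 0 := by
    intro h0
    have h1 := LinearMap.congr_fun (φ_naturality W j hcompat u) t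
    simp only [LinearMap.comp_apply] at h1
    rw [ht, h0] at h1
    exact hTu (g2.1 (h1.trans (map_zero _).symm))
  obtain ⟨s, hs⟩ : ∃ s : W' ⟶ W, (S.map u ε) s ≠ 0 := by
    by_contra hcon
    push Not at hcon
    exact hSu (LinearMap.ext hcon)
  rw [S.map_apply] at hs
  obtain ⟨c, hc⟩ := htoEnd.2 (u ≫ s)
  have hc' : c • 𝟙 W = u ≫ s := hc
  rw [← hc'] at hs
  obtain ⟨cu, rfl⟩ := hε c hs
  refine ⟨u, ((cu⁻¹ : Aˣ) : A) • s, ?_⟩
  rw [Linear.comp_smul, ← hc', smul_smul, Units.inv_mul, one_smul]

/-- two normalized dualizing complexes over a Noetherian local ring are isomorphic -/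
theorem nonempty_iso_of_normalized (W W' : Dual.D A) (hW : Dual.IsDualizing A W)
    (hnW : Dual.IsNormalized A W) (hW' : Dual.IsDualizing A W')
    (hnW' : Dual.IsNormalized A W') : Nonempty (W ≅ W') := by
  obtain ⟨u, s, hus⟩ := exists_split W W' hW hnW hW' hnW'
  obtain ⟨c, hc⟩ := hW'.toEnd_bijective.2 (s ≫ u)
  have hc' : c • 𝟙 W' = s ≫ u := hc
  have hidem : (s ≫ u) ≫ (s ≫ u) = s ≫ u := by
    rw [Category.assoc, ← Category.assoc u s u, hus, Category.id_comp]
  have hcc : c * c = c := by
    apply hW'.toEnd_bijective.1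
    show (c * c) • 𝟙 W' = c • 𝟙 W'
    rw [hc', ← hidem, ← hc', Linear.smul_comp, Linear.comp_smul, Category.comp_id, smul_smul]
  have hc01 : c = 0 ∨ c = 1 := by
    rcases IsLocalRing.isUnit_or_isUnit_one_sub_self c with h | h
    · right
      have h1 : c * (c - 1) = 0 := by rw [mul_sub, hcc, mul_one, sub_self]
      have h2 := (h.mul_right_eq_zero).mp h1
      exact sub_eq_zero.mp h2
    · left
      have h1 : (1 - c) * c = 0 := by rw [sub_mul, hcc, one_mul, sub_self]
      exact (h.mul_right_eq_zero).mp h1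
  rcases hc01 with rfl | rfl
  · exfalso
    rw [zero_smul] at hc'
    have h1 : 𝟙 W = 0 := by
      calc 𝟙 W = (u ≫ s) ≫ (u ≫ s) := by rw [hus, Category.comp_id]
        _ = u ≫ (s ≫ u) ≫ s := by simp only [Category.assoc]
        _ = 0 := by rw [← hc', zero_comp, comp_zero]
    have h2 : (1 : A) = 0 := by
      apply hW.toEnd_bijective.1
      show (1 : A) • 𝟙 W = (0 : A) • 𝟙 W
      rw [one_smul, zero_smul, h1]
    exact one_ne_zero h2
  · rw [one_smul] at hc'
    exact ⟨⟨u, s, hus, hc'.symm⟩⟩

/-- uniqueness of dualizing complexes over a Noetherian local ring, up to shift -/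
theorem exists_shift_iso (ω ω' : Dual.D A) (hω : Dual.IsDualizing A ω)
    (hω' : Dual.IsDualizing A ω') : ∃ n : ℤ, Nonempty (ω' ≅ ω⟦n⟧) := by
  obtain ⟨t, -, h1, h2⟩ := Groth.Agent.Lib.Helper14.DualPointwise.local_data A ω hω
  obtain ⟨t', -, h1', h2'⟩ := Groth.Agent.Lib.Helper14.DualPointwise.local_data A ω' hω'
  obtain ⟨e⟩ := nonempty_iso_of_normalized (ω⟦t⟧) (ω'⟦t'⟧) h1 h2 h1' h2'
  refine ⟨t - t', ⟨?_⟩⟩
  exact ((shiftFunctorCompIsoId (Dual.D A) t' (-t') (by omega)).app ω').symm ≪≫
    (CategoryTheory.shiftFunctor (Dual.D A) (-t')).mapIso e.symm ≪≫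
    ((shiftFunctorAdd' (Dual.D A) t (-t') (t - t') (by omega)).app ω).symm

end Groth.Agent.Lib.Helper36.LD
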